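import Groth.Agent.H02CA.ExtFlatBC
import Groth.Agent.H06EGA11.FibreProjective
import Groth.Agent.H24Def.BurchLift
import Groth.Agent.H7Flat.UnivInjFibres
import Groth.Agent.H7Flat.HenselianFlatSpec
import Mathlib.CategoryTheory.Abelian.Projective.Dimension

/-!
# `Ext(K, P)` of a module flat over the base, from the fibres: one step of a free resolution
-/

set_option autoImplicit false
set_option linter.style.haveILetI false
set_option linter.unusedSectionVars false
set_option backward.isDefEq.respectTransparency false
set_option maxHeartbeats 1000000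
set_option synthInstance.maxHeartbeats 400000

universe u

open CategoryTheory CategoryTheory.Abelian
open scoped TensorProduct

namespace Groth.Agent.H02CA.ExtFib

open Groth.Agent.H02CA.ExtFlatBC (Φ Φ_natural Φ_bijective_free ext_shift ext0)

variable {A P : Type u} [CommRing A] [CommRing P] [Algebra A P]

/-- The fibre ring over a prime of the base. -/
abbrev FR (A P : Type u) [CommRing A] [CommRing P] [Algebra A P] (p : PrimeSpectrum A) : Type u :=
  P ⊗[A] p.asIdeal.ResidueField

/-- The dual of a module. -/
abbrev Dl (P K : Type u) [CommRing P] [AddCommGroup K] [Module P K] : Type u := K →ₗ[P] P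

/-- `Ext^j(K, P)`. -/
abbrev E (P K : Type u) [CommRing P] [AddCommGroup K] [Module P K] (j : ℕ) : Type u :=
  Ext (ModuleCat.of P K) (ModuleCat.of P P) j

/-- `Ext^j` on a fibre. -/
abbrev EF (p : PrimeSpectrum A) (K : Type u) [AddCommGroup K] [Module P K] (j : ℕ) : Type u :=
  Ext (ModuleCat.of (FR A P p) (FR A P p ⊗[P] K)) (ModuleCat.of (FR A P p) (FR A P p ⊗[P] P)) j

/-- The cokernel of restriction of linear forms. -/
abbrev Cok {C K F : Type u} [CommRing C] [AddCommGroup K] [Module C K] [AddCommGroup F] [Module C F] (i : K →ₗ[C] F)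
    (N : Type u) [AddCommGroup N] [Module C N] : Type u := (K →ₗ[C] N) ⧸ LinearMap.range (LinearMap.lcomp C N i)

/-- The projective dimension of all the fibres is at most `c`. -/
def PdFib (A : Type u) (P : Type u) [CommRing A] [CommRing P] [Algebra A P] (K : Type u) [AddCommGroup K] [Module P K]
    (c : ℕ) : Prop :=
  ∀ p : PrimeSpectrum A, HasProjectiveDimensionLT (ModuleCat.of (FR A P p) (FR A P p ⊗[P] K)) (c + 1)

/-- The identity from a restricted module. -/
def unRestrict (A : Type u) (P : Type u) [CommRing A] [CommRing P] [Algebra A P] (M : Type u) [AddCommGroup M] [Module P M]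
    [Module A M] [IsScalarTower A P M] : RestrictScalars A P M ≃ₗ[A] M :=
  { RestrictScalars.addEquiv A P M with
    map_smul' := fun r x => by simp [RestrictScalars.addEquiv_map_smul, algebraMap_smul] }

/-- Restriction to the base of a flat module. -/
theorem flatA_iff (M : Type u) [AddCommGroup M] [Module P M] [Module A M] [IsScalarTower A P M] :
    Module.Flat A (RestrictScalars A P M) ↔ Module.Flat A M :=
  ⟨fun _ => Module.Flat.of_linearEquiv (unRestrict A P M).symm,
    fun _ => Module.Flat.of_linearEquiv (unRestrict A P M)⟩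

/-- Flatness over the base passes along isomorphisms. -/
theorem flatA_of_equiv {M N : Type u} [AddCommGroup M] [Module P M] [AddCommGroup N] [Module P N] (e : M ≃ₗ[P] N)
    (h : Module.Flat A (RestrictScalars A P M)) : Module.Flat A (RestrictScalars A P N) := by
  letI : Module A N := Module.compHom N (algebraMap A P)
  haveI : IsScalarTower A P N := .of_algebraMap_smul fun _ _ => rfl
  letI : Module A M := Module.compHom M (algebraMap A P)
  haveI : IsScalarTower A P M := .of_algebraMap_smul fun _ _ => rfl
  haveI := (flatA_iff (A := A) (P := P) M).1 h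
  exact (flatA_iff N).2 (Module.Flat.of_linearEquiv (e.restrictScalars A).symm)

/-- Submodules and quotients, seen over the base. -/
theorem flatA_ker {M N : Type u} [AddCommGroup M] [Module P M] [Module A M] [IsScalarTower A P M]
    [AddCommGroup N] [Module P N] [Module A N] [IsScalarTower A P N] [Module.Flat A M] [Module.Flat A N]
    (f : M →ₗ[P] N) (hf : Function.Surjective f) : Module.Flat A (LinearMap.ker f) := by
  haveI := Groth.Agent.H24Def.flat_ker (f.restrictScalars A) hf
  exact Module.Flat.of_linearEquiv (R := A) (M := LinearMap.ker (f.restrictScalars A)) (N := LinearMap.ker f)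
    { toFun := fun x => ⟨x.1, x.2⟩, invFun := fun x => ⟨x.1, x.2⟩, map_add' := fun _ _ => rfl,
      map_smul' := fun _ _ => rfl, left_inv := fun _ => rfl, right_inv := fun _ => rfl }

variable [Algebra.FinitePresentation A P] [Module.Flat A P]
variable {K F Y : Type u} [AddCommGroup K] [Module P K]
  [AddCommGroup F] [Module P F] [AddCommGroup Y] [Module P Y]

/-- Duals of finite projective modules commute with base change. -/
theorem Φ_bijective_projective [Module.Finite P K] [Module.Projective P K] (B : Type u) [CommRing B] [Algebra P B] :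
    Function.Bijective (Φ (A := P) B K P) := by
  obtain ⟨n, r, hr⟩ := Module.Finite.exists_fin' P K
  obtain ⟨s, hs⟩ := Module.projective_lifting_property r LinearMap.id hr
  have hF := Φ_bijective_free (A := P) B (Fin n → P) P
  have hrs : r.baseChange B ∘ₗ s.baseChange B = LinearMap.id := by
    rw [← LinearMap.baseChange_comp, hs, LinearMap.baseChange_id]
  refine ⟨(injective_iff_map_eq_zero _).2 fun x hx => ?_, fun ψ => ?_⟩
  · have h0 : (LinearMap.lcomp P P r).baseChange B x = 0 :=
      hF.1 (by rw [Φ_natural, hx, map_zero, LinearMap.zero_comp])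
    have h1 := congrArg ((LinearMap.lcomp P P s).baseChange B) h0
    rw [map_zero, ← LinearMap.comp_apply, ← LinearMap.baseChange_comp,
      show LinearMap.lcomp P P s ∘ₗ LinearMap.lcomp P P r = LinearMap.id from
        LinearMap.ext fun φ => by
          show (φ ∘ₗ r) ∘ₗ s = φ
          rw [LinearMap.comp_assoc, hs, LinearMap.comp_id],
      LinearMap.baseChange_id] at h1
    exact h1
  · obtain ⟨z, hz⟩ := hF.2 (ψ ∘ₗ r.baseChange B)
    exact ⟨(LinearMap.lcomp P P s).baseChange B z, by
      rw [Φ_natural, hz, LinearMap.comp_assoc, hrs, LinearMap.comp_id]⟩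

variable [Module A K] [IsScalarTower A P K]

/-- One step of a free resolution of a finitely presented module flat over the base. -/
structure Step (A : Type u) (P : Type u) [CommRing A] [CommRing P] [Algebra A P] (K : Type u) [AddCommGroup K] [Module P K]
    [Module A K] where
  r : ℕ
  π : (Fin r → P) →ₗ[P] K
  surj : Function.Surjective π
  fp : Module.FinitePresentation P (LinearMap.ker π)
  flat : Module.Flat A (LinearMap.ker π)
  inj : ∀ p : PrimeSpectrum A, Function.Injective ((LinearMap.ker π).subtype.baseChange (FR A P p))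

theorem nonempty_step [Module.FinitePresentation P K] [Module.Flat A K] : Nonempty (Step A P K) := by
  obtain ⟨r, π, hπ⟩ := Module.Finite.exists_fin' P K
  haveI : Module.Flat A (Fin r → P) := Module.Flat.trans A P _
  exact ⟨⟨r, π, hπ, Groth.Agent.H06EGA11.finitePresentation_ker (A := A) π hπ, flatA_ker π hπ,
    fun p => Groth.Agent.H06EGA11.baseChange_injective_of_flat _ π Subtype.val_injective hπ
      π.exact_subtype_ker_map p.asIdeal.ResidueField⟩⟩

variable (s : Step A P K)

theorem Step.exact (p : PrimeSpectrum A) :
    Function.Exact ((LinearMap.ker s.π).subtype.baseChange (FR A P p)) (s.π.baseChange (FR A P p)) :=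
  lTensor_exact _ s.π.exact_subtype_ker_map s.surj

theorem Step.surj' (p : PrimeSpectrum A) : Function.Surjective (s.π.baseChange (FR A P p)) :=
  LinearMap.lTensor_surjective _ s.surj

theorem Step.pdFib {c : ℕ} (h : PdFib A P K (c + 1)) : PdFib A P (LinearMap.ker s.π) c := fun p => by
  let S : ShortComplex (ModuleCat.{u} (FR A P p)) := ShortComplex.mk
    (ModuleCat.ofHom ((LinearMap.ker s.π).subtype.baseChange (FR A P p))) (ModuleCat.ofHom (s.π.baseChange (FR A P p)))
    (ModuleCat.hom_ext (LinearMap.ext fun x => (s.exact p).apply_apply_eq_zero x))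
  haveI : Mono S.f := (ModuleCat.mono_iff_injective _).mpr (s.inj p)
  haveI : Epi S.g := (ModuleCat.epi_iff_surjective _).mpr (s.surj' p)
  have hS : S.ShortExact :=
    { exact := (ShortComplex.ShortExact.moduleCat_exact_iff_function_exact S).mpr (s.exact p) }
  exact (hS.hasProjectiveDimensionLT_X₃_iff c ((IsProjective.iff_projective.{u, u} _).mp inferInstance)).1 (h p)

/-- The isomorphisms of one step. -/
theorem Step.shift (j : ℕ) :
    Nonempty (E P K (j + 2) ≃ₗ[P] E P (LinearMap.ker s.π) (j + 1)) ∧
      Nonempty (E P K 1 ≃ₗ[P]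
        (Dl P (LinearMap.ker s.π) ⧸ LinearMap.range (LinearMap.lcomp P P (LinearMap.ker s.π).subtype))) :=
  ext_shift _ s.π Subtype.val_injective s.surj s.π.exact_subtype_ker_map P j

/-- The isomorphisms of one step on a fibre. -/
theorem Step.shiftFib (p : PrimeSpectrum A) (j : ℕ) :
    Nonempty (EF (P := P) p K (j + 2) ≃ₗ[FR A P p] EF (P := P) p (LinearMap.ker s.π) (j + 1)) ∧
      Nonempty (EF (P := P) p K 1 ≃ₗ[FR A P p]
        Cok ((LinearMap.ker s.π).subtype.baseChange (FR A P p)) (FR A P p ⊗[P] P)) :=
  ext_shift _ _ (s.inj p) (s.surj' p) (s.exact p) _ j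

theorem subsingleton_E_of_projective [Module.Projective P K] (j : ℕ) : Subsingleton (E P K (j + 1)) := by
  haveI : Projective (ModuleCat.of P K) := (IsProjective.iff_projective.{u, u} _).mp inferInstance
  exact subsingleton_of_forall_eq 0 fun x => Ext.eq_zero_of_projective x

/-- A finitely presented flat module with projective fibres. -/
theorem projective_of_pdFib_zero [Module.FinitePresentation P K] [Module.Flat A K] (h : PdFib A P K 0) :
    Module.Projective P K :=
  (Groth.Agent.H06EGA11.projective_iff_fibres A P K).2 fun p hp =>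
    (IsProjective.iff_projective.{u, u} _).mpr
      (projective_iff_hasProjectiveDimensionLT_one.mpr (h ⟨p, hp⟩))

/-- The top `Ext` commutes with passage to the fibres, and nothing is above it. -/
theorem top_ext : ∀ (c : ℕ) (K : Type u) [AddCommGroup K] [Module P K] [Module A K] [IsScalarTower A P K]
    [Module.FinitePresentation P K] [Module.Flat A K], PdFib A P K (c + 1) →
    (∀ j, c + 1 < j → Subsingleton (E P K j)) ∧
      ∀ p : PrimeSpectrum A, Nonempty (FR A P p ⊗[P] E P K (c + 1) ≃ₗ[FR A P p] EF (P := P) p K (c + 1)) := by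
  intro c
  induction c with
  | zero =>
    intro K _ _ _ _ _ _ h
    obtain ⟨s⟩ := nonempty_step (A := A) (P := P) (K := K)
    haveI := s.fp
    haveI := s.flat
    haveI := projective_of_pdFib_zero (A := A) (P := P) (s.pdFib h)
    refine ⟨fun j hj => ?_, fun p => ?_⟩
    · obtain ⟨j, rfl⟩ := Nat.exists_eq_add_of_le' (show 2 ≤ j by omega)
      obtain ⟨e⟩ := (s.shift j).1
      haveI := subsingleton_E_of_projective (P := P) (K := LinearMap.ker s.π) j
      exact e.injective.subsingleton
    · obtain ⟨e⟩ := (s.shift 0).2
      obtain ⟨e'⟩ := (s.shiftFib p 0).2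
      let C := FR A P p
      let b := LinearMap.lcomp P P (LinearMap.ker s.π).subtype
      let φ := LinearEquiv.ofBijective (Φ (A := P) C (LinearMap.ker s.π) P) (Φ_bijective_projective C)
      have hrange : (LinearMap.range (b.baseChange C)).map φ.toLinearMap =
          LinearMap.range (LinearMap.lcomp C (C ⊗[P] P) ((LinearMap.ker s.π).subtype.baseChange C)) := by
        ext ψ
        constructor
        · rintro ⟨x, ⟨z, rfl⟩, rfl⟩
          exact ⟨Φ (A := P) C _ P z, (Φ_natural C P _ z).symm⟩
        · rintro ⟨g, rfl⟩
          obtain ⟨z, rfl⟩ := (Φ_bijective_free (A := P) C (Fin s.r → P) P).2 g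
          exact ⟨_, ⟨z, rfl⟩, Φ_natural C P _ z⟩
      have hex : Function.Exact (b.baseChange C) ((LinearMap.range b).mkQ.baseChange C) :=
        lTensor_exact C (LinearMap.exact_map_mkQ_range b) (Submodule.mkQ_surjective _)
      exact ⟨((e.baseChange P C _ _).trans
        (hex.linearEquivOfSurjective (LinearMap.lTensor_surjective C (Submodule.mkQ_surjective _))).symm).trans
          ((Submodule.Quotient.equiv _ _ φ hrange).trans e'.symm)⟩
  | succ c ih =>
    intro K _ _ _ _ _ _ h
    obtain ⟨s⟩ := nonempty_step (A := A) (P := P) (K := K)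
    haveI := s.fp
    haveI := s.flat
    obtain ⟨h1, h2⟩ := ih (LinearMap.ker s.π) (s.pdFib h)
    refine ⟨fun j hj => ?_, fun p => ?_⟩
    · obtain ⟨j, rfl⟩ := Nat.exists_eq_add_of_le' (show 2 ≤ j by omega)
      obtain ⟨e⟩ := (s.shift j).1
      haveI := h1 (j + 1) (by omega)
      exact e.injective.subsingleton
    · obtain ⟨e⟩ := (s.shift c).1
      obtain ⟨e'⟩ := (s.shiftFib p c).1
      obtain ⟨e''⟩ := h2 p
      exact ⟨(e.baseChange P (FR A P p) _ _).trans (e''.trans e'.symm)⟩

end Groth.Agent.H02CA.ExtFib
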