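import Groth.Agent.H02CA.ExtDual
import Groth.Agent.H02CA.ExtFlatBC
import Groth.Agent.H02CA.CMEquidim
import Groth.Agent.H02CA.AuslanderBuchsbaum
import Groth.Agent.H02CA.DSeqGen.Basic
import Groth.Agent.H4DR.Hom.Regular
import Groth.Agent.H3CAlg.CMTor
import Groth.Agent.H8Props.CMAt
import Groth.Agent.H05EGA4.Equidim
import Groth.Agent.S5671
import Mathlib.RingTheory.TensorProduct.Quotient
import Mathlib.RingTheory.LocalProperties.Basic

/-!
# Cohen–Macaulay equidimensional quotients of a regular algebra through `Ext`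
-/

set_option autoImplicit false
set_option linter.style.haveILetI false
set_option linter.unusedSectionVars false
set_option backward.isDefEq.respectTransparency false

universe u

open CategoryTheory CategoryTheory.Abelian IsLocalRing
open scoped TensorProduct

namespace Groth.Agent.H02CA.ExtFib.Field

/-- The data at a prime: a regular local ring and a cyclic module. -/
theorem pd_depth {L : Type u} [CommRing L] [IsRegularLocalRing L] (I : Ideal L) (hI : I ≠ ⊤) :
    ∃ (h e d : ℕ), ringKrullDim L = h ∧ HasProjectiveDimensionLT (ModuleCat.of L (L ⧸ I)) (e + 1) ∧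
      ¬ HasProjectiveDimensionLT (ModuleCat.of L (L ⧸ I)) e ∧ LocCoh.depth L (L ⧸ I) = d ∧ h = e + d := by
  haveI := H4Goren.isGorensteinLocalRing_of_isRegularLocalRing L
  obtain ⟨h, hdepth, hh, -⟩ := H4Goren.depth_eq_ringKrullDim L
  haveI : Nontrivial (L ⧸ I) := Ideal.Quotient.nontrivial_iff.mpr hI
  have hlt : HasProjectiveDimensionLT (ModuleCat.of L (L ⧸ I)) (h + 1) :=
    Groth.Agent.H4DR.Hom.hasProjectiveDimensionLT_of_regular
      (fun p => H05EGA4.isRegularLocalRing_localization L p.asIdeal) hh _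
  obtain ⟨e, he⟩ := AuslanderBuchsbaum.exists_pd_eq (L ⧸ I) fun htop => by
    have h1 := (projectiveDimension_le_iff (ModuleCat.of L (L ⧸ I)) h).mpr hlt
    rw [htop] at h1
    exact absurd h1 (not_le.mpr (WithBot.coe_lt_coe.mpr (ENat.natCast_lt_top h)))
  obtain ⟨h1, h2⟩ := AuslanderBuchsbaum.pd_bounds_of_eq he
  have hab := AuslanderBuchsbaum.depth_eq_add e (L ⧸ I) h1 h2
  rw [hdepth] at hab
  obtain ⟨d, hd⟩ : ∃ d : ℕ, LocCoh.depth L (L ⧸ I) = d := by
    cases hd : LocCoh.depth L (L ⧸ I) with
    | top => rw [hd, add_top] at hab; exact absurd hab (ENat.coe_ne_top h)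
    | coe d => exact ⟨d, rfl⟩
  exact ⟨h, e, d, hh, h1, h2, hd, by rw [hd] at hab; exact_mod_cast hab⟩

/-- Cohen–Macaulay of codimension `c`: `Ext` is concentrated in degree `c`. -/
theorem ext_local_of_cm {L : Type u} [CommRing L] [IsRegularLocalRing L] (I : Ideal L)
    (hCM : LocCoh.IsCohenMacaulayLocalRing (L ⧸ I)) (c n : ℕ) (hn : ringKrullDim (L ⧸ I) = n)
    (hL : ringKrullDim L = (c + n : ℕ)) (j : ℕ) (hj : j ≠ c) :
    Subsingleton (Ext (ModuleCat.of L (L ⧸ I)) (ModuleCat.of L L) j) := by
  haveI : Nontrivial (L ⧸ I) := hCM.toIsLocalRing.toNontrivial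
  obtain ⟨h, e, d, hh, he, -, hd, hed⟩ := pd_depth I (Ideal.Quotient.nontrivial_iff.mp inferInstance)
  have hcm := H3CAlg.CMTor.isCM_quotient I hCM
  unfold LocCoh.IsCohenMacaulayModule at hcm
  rw [hd, Module.supportDim_quotient_eq_ringKrullDim, hn] at hcm
  rw [hh] at hL
  have hdn : n = d := by exact_mod_cast hcm
  have hhc : h = c + n := by exact_mod_cast hL
  rcases Nat.lt_or_gt_of_ne hj with hlt | hgt
  · refine Groth.Agent.S5671.result L (L ⧸ I) c ?_ j hlt
    rw [Module.supportDim_quotient_eq_ringKrullDim, hn, hh]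
    exact_mod_cast le_of_eq (by omega)
  · haveI := he
    exact HasProjectiveDimensionLT.subsingleton (ModuleCat.of L (L ⧸ I)) (e + 1) j (by omega) _

/-- Concentration of `Ext` gives the depth. -/
theorem depth_local_of_ext {L : Type u} [CommRing L] [IsRegularLocalRing L] (I : Ideal L) (hI : I ≠ ⊤) (c : ℕ)
    (hext : ∀ j, j ≠ c → Subsingleton (Ext (ModuleCat.of L (L ⧸ I)) (ModuleCat.of L L) j)) :
    ∃ d : ℕ, LocCoh.depth L (L ⧸ I) = d ∧ ringKrullDim L = (c + d : ℕ) := by
  obtain ⟨h, e, d, hh, he, he', hd, hed⟩ := pd_depth I hI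
  have hec : e = c := by
    by_contra hne
    haveI := hext e hne
    refine he' ?_
    match e with
    | 0 =>
      haveI : Subsingleton ((L ⧸ I) →ₗ[L] L) := (ExtFlatBC.ext0 (R := L) (L ⧸ I) L).symm.injective.subsingleton
      haveI := he
      haveI : Module.Projective L (L ⧸ I) := (IsProjective.iff_projective.{u, u} _).mpr
        (projective_iff_hasProjectiveDimensionLT_one.mpr he)
      haveI : Module.Finite L (L ⧸ I) := inferInstance
      haveI : Subsingleton (L ⧸ I) := subsingleton_of_forall_eq 0 fun x => by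
        obtain ⟨s, hs⟩ := Module.projective_def.1 ‹Module.Projective L (L ⧸ I)›
        have h1 : s x = 0 := Finsupp.ext fun i => LinearMap.congr_fun
          (Subsingleton.elim ((Finsupp.lapply i).comp s) 0) x
        rw [← hs x, h1, map_zero]
      exact Limits.IsZero.hasProjectiveDimensionLT_zero (ModuleCat.isZero_of_subsingleton _)
    | e + 1 =>
      haveI := he
      exact hasProjectiveDimensionLT_of_ext_self e (L ⧸ I) ‹_›
  exact ⟨d, hd, by rw [hh]; exact_mod_cast (show h = c + d by omega)⟩

/-- Vanishing of `Ext` along isomorphisms. -/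
theorem subsingleton_ext_congr {R : Type u} [CommRing R] {M M' N N' : ModuleCat.{u} R} (eM : M ≅ M') (eN : N ≅ N') (j : ℕ) :
    Subsingleton (Ext M N j) ↔ Subsingleton (Ext M' N' j) :=
  (((extFunctor j).mapIso eM.op).app N |>.addCommGroupIsoToAddEquiv.symm.toEquiv.trans
    (((extFunctor j).obj (Opposite.op M')).mapIso eN).addCommGroupIsoToAddEquiv.toEquiv).subsingleton_congr

section Global

variable {C : Type u} [CommRing C] [IsNoetherianRing C] (J : Ideal C)

/-- `Ext` at a prime. -/
theorem ext_localized (Q : Ideal C) [Q.IsPrime] (j : ℕ) :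
    Subsingleton (Localization.AtPrime Q ⊗[C] Ext (ModuleCat.of C (C ⧸ J)) (ModuleCat.of C C) j) ↔
      Subsingleton (Ext (ModuleCat.of (Localization.AtPrime Q)
        (Localization.AtPrime Q ⧸ J.map (algebraMap C (Localization.AtPrime Q))))
        (ModuleCat.of (Localization.AtPrime Q) (Localization.AtPrime Q)) j) := by
  let L := Localization.AtPrime Q
  haveI : Module.Flat C L := IsLocalization.flat L Q.primeCompl
  obtain ⟨e⟩ := ExtFlatBC.nonempty_ext_equiv (A := C) L C j (C ⧸ J)
  exact e.toEquiv.subsingleton_congr.trans (subsingleton_ext_congr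
    (Algebra.TensorProduct.quotIdealMapEquivTensorQuot L J).toLinearEquiv.symm.toModuleIso
    (TensorProduct.AlgebraTensorModule.rid C L L).toModuleIso j)

/-- The quotient of the localisation is the localisation of the quotient. -/
theorem isLocalization_quotient (Q : Ideal C) [Q.IsPrime] (hQ : J ≤ Q) :
    haveI := Ideal.map_isPrime_of_surjective (f := Ideal.Quotient.mk J) (I := Q) Ideal.Quotient.mk_surjective
      (by rw [Ideal.mk_ker]; exact hQ)
    Nonempty (Localization.AtPrime (Q.map (Ideal.Quotient.mk J)) ≃+*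
      (Localization.AtPrime Q ⧸ J.map (algebraMap C (Localization.AtPrime Q)))) := by
  let mb : Ideal (C ⧸ J) := Q.map (Ideal.Quotient.mk J)
  haveI : mb.IsPrime := Ideal.map_isPrime_of_surjective Ideal.Quotient.mk_surjective
    (by rw [Ideal.mk_ker]; exact hQ)
  haveI : mb.LiesOver Q := ⟨(Ideal.comap_map_mk hQ).symm⟩
  let B := Localization.AtPrime Q ⧸ J.map (algebraMap C (Localization.AtPrime Q))
  haveI : IsLocalization.AtPrime B mb := by
    have e := Ideal.algebraMapSubmonoid_primeCompl_of_liesOver_surjective mb Q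
      (show Function.Surjective (algebraMap C (C ⧸ J)) from Ideal.Quotient.mk_surjective)
    show IsLocalization mb.primeCompl B
    rw [← e]
    infer_instance
  exact ⟨(IsLocalization.algEquiv mb.primeCompl (Localization.AtPrime mb) B).toRingEquiv⟩

/-- The height in the quotient. -/
theorem height_map_le (c : ℕ) (hle : ∀ (Q : Ideal C) [Q.IsPrime], J ≤ Q → (c : ℕ∞) ≤ Q.height) :
    ∀ (d : ℕ) (Qb : PrimeSpectrum (C ⧸ J)),
      Order.height (PrimeSpectrum.comap (Ideal.Quotient.mk J) Qb) ≤ ((c + d : ℕ) : ℕ∞) → Order.height Qb ≤ (d : ℕ∞) := by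
  intro d
  induction d using Nat.strong_induction_on with
  | _ d ih =>
    intro Qb hQ
    rw [Order.height_le_coe_iff] at hQ ⊢
    intro y hy
    have hlt : PrimeSpectrum.comap (Ideal.Quotient.mk J) y < PrimeSpectrum.comap (Ideal.Quotient.mk J) Qb :=
      lt_of_le_of_ne (Ideal.comap_mono hy.le) fun h =>
        hy.ne (PrimeSpectrum.comap_injective_of_surjective _ Ideal.Quotient.mk_surjective h)
    have h1 := hQ _ hlt
    have h2 := hle (PrimeSpectrum.comap (Ideal.Quotient.mk J) y).asIdeal
      ((Ideal.mk_ker (I := J)).ge.trans (Ideal.ker_le_comap _))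
    rw [PrimeSpectrum.height_eq_orderHeight] at h2
    obtain ⟨t, ht⟩ := ENat.ne_top_iff_exists.mp (ne_top_of_lt h1)
    rw [← ht] at h1 h2
    have ht1 : t < c + d := by exact_mod_cast h1
    have ht2 : c ≤ t := by exact_mod_cast h2
    refine lt_of_le_of_lt (ih (t - c) (by omega) y ?_) (by exact_mod_cast (show t - c < d by omega))
    rw [← ht]
    exact_mod_cast (show t ≤ c + (t - c) by omega)

variable [IsRegularRing C] [IsDomain C] {k : Type u} [Field k] [Algebra k C] [Algebra.FiniteType k C] (k)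
  (N : ℕ) (hN : ∀ m : Ideal C, m.IsMaximal → m.height = N)

include k hN in
/-- Cohen–Macaulay with all components of dimension `n` gives concentration of `Ext`. -/
theorem ext_of_cm (c n : ℕ) (hcn : c + n = N) [LocCoh.IsCohenMacaulayRing (C ⧸ J)]
    (hdim : ∀ P : PrimeSpectrum (C ⧸ J), P.asIdeal ∈ minimalPrimes (C ⧸ J) → Order.coheight P = (n : ℕ∞))
    (j : ℕ) (hj : j ≠ c) : Subsingleton (Ext (ModuleCat.of C (C ⧸ J)) (ModuleCat.of C C) j) := by
  let X := Ext (ModuleCat.of C (C ⧸ J)) (ModuleCat.of C C) j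
  refine Module.subsingleton_of_localization_maximal (R := C) (M := X)
    (fun m _ => Localization.AtPrime m ⊗[C] X) (fun m _ => TensorProduct.mk C (Localization.AtPrime m) X 1) fun m hm => ?_
  rw [ext_localized]
  by_cases hJ : J ≤ m
  · obtain ⟨e⟩ := isLocalization_quotient J m hJ
    haveI hmb : (m.map (Ideal.Quotient.mk J)).IsMaximal := (Ideal.map_eq_top_or_isMaximal_of_surjective _
      Ideal.Quotient.mk_surjective hm).resolve_left fun h => hm.ne_top (by
        rw [← Ideal.comap_map_mk hJ, h, Ideal.comap_top])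
    haveI : IsRegularLocalRing (Localization.AtPrime m) := isRegularRing_iff.mp inferInstance m
    haveI := LocCoh.IsCohenMacaulayRing.isCohenMacaulayLocalRing_localization (m.map (Ideal.Quotient.mk J))
    have hCM := H8Props.CMAt.isCohenMacaulayLocalRing_of_ringEquiv e
    obtain ⟨p, hp, hple⟩ := Ideal.exists_minimalPrimes_le (I := (⊥ : Ideal (C ⧸ J)))
      (J := m.map (Ideal.Quotient.mk J)) bot_le
    haveI := hp.1.1
    have hh : (((m.map (Ideal.Quotient.mk J)).height : ℕ∞) : WithBot ℕ∞) = (n : ℕ∞) := by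
      rw [← CMEquidim.dim_quotient_eq_height k p _ hp hple, ← DSeqGen.coheight_eq_ringKrullDim ⟨p, hp.1.1⟩,
        hdim ⟨p, hp.1.1⟩ hp]
    refine ext_local_of_cm _ hCM c n ?_ ?_ j hj
    · rw [← ringKrullDim_eq_of_ringEquiv e,
        IsLocalization.AtPrime.ringKrullDim_eq_height (m.map (Ideal.Quotient.mk J))]
      exact hh
    · rw [IsLocalization.AtPrime.ringKrullDim_eq_height m, hN m hm, hcn]
      rfl
  · haveI : Subsingleton (Localization.AtPrime m ⧸ J.map (algebraMap C (Localization.AtPrime m))) := by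
      rw [Ideal.Quotient.subsingleton_iff]
      obtain ⟨x, hxJ, hxm⟩ := SetLike.not_le_iff_exists.mp hJ
      exact Ideal.eq_top_of_isUnit_mem _ (Ideal.mem_map_of_mem _ hxJ)
        (IsLocalization.map_units (Localization.AtPrime m) (⟨x, hxm⟩ : m.primeCompl))
    haveI := (ModuleCat.isZero_of_subsingleton (ModuleCat.of (Localization.AtPrime m)
      (Localization.AtPrime m ⧸ J.map (algebraMap C (Localization.AtPrime m))))).hasProjectiveDimensionLT_zero
    exact HasProjectiveDimensionLT.subsingleton _ 0 j (Nat.zero_le _) _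

include hN in
/-- The projective dimension from concentration of `Ext`. -/
theorem pd_of_ext (hdim : ringKrullDim C = (N : ℕ∞)) (c : ℕ) (hc : c ≤ N)
    (hext : ∀ j, j ≠ c → Subsingleton (Ext (ModuleCat.of C (C ⧸ J)) (ModuleCat.of C C) j)) :
    HasProjectiveDimensionLT (ModuleCat.of C (C ⧸ J)) (c + 1) := by
  refine hasProjectiveDimensionLT_of_ext_self_above (C ⧸ J) c (N - c) ?_ fun j h _ => hext j (by omega)
  rw [Nat.add_sub_cancel' hc]
  exact Groth.Agent.H4DR.Hom.hasProjectiveDimensionLT_of_regular (fun p => isRegularRing_iff.mp inferInstance p.asIdeal) hdim _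

include k hN in
/-- Concentration of `Ext` gives Cohen–Macaulay with all components of dimension `n`. -/
theorem cm_of_ext (hdimC : ringKrullDim C = (N : ℕ∞)) (c n : ℕ) (hcn : c + n = N)
    (hext : ∀ j, j ≠ c → Subsingleton (Ext (ModuleCat.of C (C ⧸ J)) (ModuleCat.of C C) j)) :
    LocCoh.IsCohenMacaulayRing (C ⧸ J) ∧
      ∀ P : PrimeSpectrum (C ⧸ J), P.asIdeal ∈ minimalPrimes (C ⧸ J) → Order.coheight P = (n : ℕ∞) := by
  -- depth at every prime
  have key : ∀ (Q : Ideal C) [Q.IsPrime], J ≤ Q → ∃ d : ℕ,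
      LocCoh.depth (Localization.AtPrime Q) (Localization.AtPrime Q ⧸ J.map (algebraMap C (Localization.AtPrime Q))) = d ∧
        Q.height = ((c + d : ℕ) : ℕ∞) := by
    intro Q _ hJ
    haveI : IsRegularLocalRing (Localization.AtPrime Q) := isRegularRing_iff.mp inferInstance Q
    have hne : J.map (algebraMap C (Localization.AtPrime Q)) ≠ ⊤ :=
      ne_top_of_le_ne_top (maximalIdeal.isMaximal _).ne_top (Localization.AtPrime.map_eq_maximalIdeal (I := Q) ▸ Ideal.map_mono hJ)
    obtain ⟨d, hd, hdim⟩ := depth_local_of_ext _ hne c fun j hj => by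
      haveI := hext j hj
      exact (ext_localized J Q j).1 inferInstance
    refine ⟨d, hd, ?_⟩
    rw [IsLocalization.AtPrime.ringKrullDim_eq_height Q] at hdim
    exact WithBot.coe_injective hdim
  have hle : ∀ (Q : Ideal C) [Q.IsPrime], J ≤ Q → (c : ℕ∞) ≤ Q.height := fun Q _ hJ => by
    obtain ⟨d, -, hd⟩ := key Q hJ
    rw [hd]; exact_mod_cast Nat.le_add_right c d
  constructor
  · refine ⟨fun Qb _ => ?_⟩
    let Q := Qb.comap (Ideal.Quotient.mk J)
    have hJ : J ≤ Q := (Ideal.mk_ker (I := J)).ge.trans (Ideal.ker_le_comap _)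
    obtain ⟨d, hd, hdim⟩ := key Q hJ
    obtain ⟨e⟩ := isLocalization_quotient J Q hJ
    have hQb : Q.map (Ideal.Quotient.mk J) = Qb := Ideal.map_comap_of_surjective _ Ideal.Quotient.mk_surjective Qb
    haveI := Ideal.map_isPrime_of_surjective (f := Ideal.Quotient.mk J) (I := Q) Ideal.Quotient.mk_surjective
      (by rw [Ideal.mk_ker]; exact hJ)
    suffices ∀ (Q' : Ideal (C ⧸ J)) [Q'.IsPrime], Q.map (Ideal.Quotient.mk J) = Q' →
        LocCoh.IsCohenMacaulayLocalRing (Localization.AtPrime Q') from this Qb hQb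
    intro Q' _ hQ'
    subst hQ'
    haveI : IsRegularLocalRing (Localization.AtPrime Q) := isRegularRing_iff.mp inferInstance Q
    let I := J.map (algebraMap C (Localization.AtPrime Q))
    haveI : IsLocalRing (Localization.AtPrime Q ⧸ I) := e.isLocalRing
    haveI : Nontrivial (Localization.AtPrime Q ⧸ I) := e.symm.toEquiv.nontrivial
    suffices h : LocCoh.IsCohenMacaulayLocalRing (Localization.AtPrime Q ⧸ I) from
      @H8Props.CMAt.isCohenMacaulayLocalRing_of_ringEquiv _ _ _ _ e.symm h
    refine ⟨le_antisymm ?_ ?_⟩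
    · rw [Module.supportDim_self_eq_ringKrullDim, ← ringKrullDim_eq_of_ringEquiv e,
        IsLocalization.AtPrime.ringKrullDim_eq_height (Q.map (Ideal.Quotient.mk J)),
        H8Props.FlatDepth.depth_eq_of_surjective (R := Localization.AtPrime Q) Ideal.Quotient.mk_surjective, hd]
      rw [PrimeSpectrum.height_eq_orderHeight ⟨Q.map (Ideal.Quotient.mk J), inferInstance⟩]
      refine WithBot.coe_le_coe.mpr (height_map_le J c hle d _ ?_)
      rw [← hdim, show PrimeSpectrum.comap (Ideal.Quotient.mk J) ⟨Q.map (Ideal.Quotient.mk J), inferInstance⟩ =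
        (⟨Q, inferInstance⟩ : PrimeSpectrum C) from PrimeSpectrum.ext (Ideal.comap_map_mk hJ)]
      exact (PrimeSpectrum.height_eq_orderHeight ⟨Q, inferInstance⟩).ge
    · exact H4Depth.depth_le_supportDim
  · intro P hP
    let Q := P.asIdeal.comap (Ideal.Quotient.mk J)
    have hJ : J ≤ Q := (Ideal.mk_ker (I := J)).ge.trans (Ideal.ker_le_comap _)
    obtain ⟨d, hd, hQ⟩ := key Q hJ
    obtain ⟨e⟩ := isLocalization_quotient J Q hJ
    haveI := Ideal.map_isPrime_of_surjective (f := Ideal.Quotient.mk J) (I := Q) Ideal.Quotient.mk_surjective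
      (by rw [Ideal.mk_ker]; exact hJ)
    haveI : IsRegularLocalRing (Localization.AtPrime Q) := isRegularRing_iff.mp inferInstance Q
    haveI : IsLocalRing (Localization.AtPrime Q ⧸ J.map (algebraMap C (Localization.AtPrime Q))) := e.isLocalRing
    have h0 : (Q.map (Ideal.Quotient.mk J)).height = 0 := by
      rw [Ideal.map_comap_of_surjective _ Ideal.Quotient.mk_surjective]
      exact Ideal.height_eq_zero_iff.mpr hP
    have hdim0 : ringKrullDim (Localization.AtPrime Q ⧸ J.map (algebraMap C (Localization.AtPrime Q))) = 0 := by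
      rw [← ringKrullDim_eq_of_ringEquiv e,
        IsLocalization.AtPrime.ringKrullDim_eq_height (Q.map (Ideal.Quotient.mk J)), h0]
      rfl
    haveI : Nontrivial (Localization.AtPrime Q ⧸ J.map (algebraMap C (Localization.AtPrime Q))) := e.symm.toEquiv.nontrivial
    have hle0 := H4Depth.depth_le_supportDim (R := Localization.AtPrime Q)
      (M := Localization.AtPrime Q ⧸ J.map (algebraMap C (Localization.AtPrime Q)))
    rw [Module.supportDim_quotient_eq_ringKrullDim, hdim0, hd] at hle0
    have hd0 : d = 0 := Nat.le_zero.mp (by exact_mod_cast hle0)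
    rw [hd0, add_zero] at hQ
    have h := H8Props.FieldDim.height_add_dim_quotient k C Q
    rw [hdimC, hQ] at h
    let e' : (C ⧸ Q) ≃+* ((C ⧸ J) ⧸ P.asIdeal) :=
      ((DoubleQuot.quotQuotEquivQuotOfLE hJ).symm).trans
        (Ideal.quotEquivOfEq (Ideal.map_comap_of_surjective _ Ideal.Quotient.mk_surjective P.asIdeal))
    rw [ringKrullDim_eq_of_ringEquiv e', ← DSeqGen.coheight_eq_ringKrullDim P, ← WithBot.coe_add] at h
    have h' : (c : ℕ∞) + Order.coheight P = (N : ℕ∞) := WithBot.coe_injective h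
    obtain ⟨t, ht⟩ := ENat.ne_top_iff_exists.mp (fun htop : Order.coheight P = ⊤ => by
      rw [htop, add_top] at h'; exact ENat.coe_ne_top N h'.symm)
    rw [← ht] at h' ⊢
    have : c + t = N := by exact_mod_cast h'
    exact_mod_cast (show t = n by omega)

end Global

end Groth.Agent.H02CA.ExtFib.Field
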