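import Groth.Agent.H02CA.ExtFib.Main
import Groth.Agent.H02CA.ExtFib.Field
import Groth.Agent.H8Props.FieldDimHeight
import Mathlib.RingTheory.KrullDimension.Polynomial
import Mathlib.RingTheory.RegularLocalRing.Polynomial
import Mathlib.RingTheory.TensorProduct.MvPolynomial

/-!
# The fibres of a quotient of a polynomial algebra
-/

set_option autoImplicit false
set_option linter.style.haveILetI false
set_option linter.unusedSectionVars false
set_option backward.isDefEq.respectTransparency false

universe u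

open CategoryTheory CategoryTheory.Abelian
open scoped TensorProduct

namespace Groth.Agent.H02CA.ExtFib.Bridge

/-- A quotient of a regular fibre ring: the two directions. -/
theorem fibre_cm_iff (C : Type u) [CommRing C] [IsNoetherianRing C] (J : Ideal C) [IsRegularRing C] [IsDomain C]
    (k : Type u) [Field k] [Algebra k C] [Algebra.FiniteType k C] (N c n : ℕ) (hcn : c + n = N)
    (hdimC : ringKrullDim C = (N : ℕ∞)) :
    (LocCoh.IsCohenMacaulayRing (C ⧸ J) ∧
      ∀ P : PrimeSpectrum (C ⧸ J), P.asIdeal ∈ minimalPrimes (C ⧸ J) → Order.coheight P = (n : ℕ∞)) ↔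
    (∀ j, j ≠ c → Subsingleton (Ext (ModuleCat.of C (C ⧸ J)) (ModuleCat.of C C) j)) := by
  have hN : ∀ m : Ideal C, m.IsMaximal → m.height = N := fun m hm => by
    have h := H8Props.FieldDim.height_add_dim_quotient k C m
    letI := Ideal.Quotient.field m
    rw [hdimC, ringKrullDim_eq_zero_of_field, add_zero] at h
    exact WithBot.coe_injective h
  exact ⟨fun h j hj => haveI := h.1; Field.ext_of_cm (k := k) J N hN c n hcn h.2 j hj,
    fun h => Field.cm_of_ext (k := k) J N hN hdimC c n hcn h⟩

/-- Transfer of the fibre condition along an isomorphism. -/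
theorem cm_coheight_congr {R S : Type u} [CommRing R] [CommRing S] (e : R ≃+* S) (n : ℕ∞) :
    (LocCoh.IsCohenMacaulayRing R ∧
      ∀ P : PrimeSpectrum R, P.asIdeal ∈ minimalPrimes R → Order.coheight P = n) ↔
    (LocCoh.IsCohenMacaulayRing S ∧
      ∀ P : PrimeSpectrum S, P.asIdeal ∈ minimalPrimes S → Order.coheight P = n) := by
  suffices ∀ (R S : Type u) [CommRing R] [CommRing S] (e : R ≃+* S),
      (LocCoh.IsCohenMacaulayRing R ∧
        ∀ P : PrimeSpectrum R, P.asIdeal ∈ minimalPrimes R → Order.coheight P = n) →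
      (LocCoh.IsCohenMacaulayRing S ∧
        ∀ P : PrimeSpectrum S, P.asIdeal ∈ minimalPrimes S → Order.coheight P = n) from
    ⟨this R S e, this S R e.symm⟩
  intro R S _ _ e h
  refine ⟨?_, fun P hP => ?_⟩
  · haveI := h.1
    haveI : IsNoetherianRing S := isNoetherianRing_of_ringEquiv R e
    haveI : IsNoetherian S S := ‹_›
    refine ⟨fun q _ => ?_⟩
    haveI : (q.comap e.toRingHom).IsPrime := Ideal.IsPrime.comap _
    haveI := LocCoh.IsCohenMacaulayRing.isCohenMacaulayLocalRing_localization (R := R) (q.comap e.toRingHom)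
    exact H8Props.CMAt.isCohenMacaulayLocalRing_of_ringEquiv
      (Localization.localRingEquiv (q.comap e.toRingHom) q e rfl)
  · have h1 := h.2 ((PrimeSpectrum.comapEquiv e).symm P) (by
      rw [← PrimeSpectrum.isMin_iff, OrderIso.isMin_apply, PrimeSpectrum.isMin_iff]
      exact hP)
    rwa [Order.coheight_orderIso] at h1

section Poly

variable {A : Type u} [CommRing A] {N : ℕ}

/-- A fibre of a polynomial algebra is a polynomial ring. -/
noncomputable def frEquiv (p : PrimeSpectrum A) :
    FR A (MvPolynomial (Fin N) A) p ≃+* MvPolynomial (Fin N) p.asIdeal.ResidueField :=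
  (Algebra.TensorProduct.comm A _ _).toRingEquiv.trans
    (MvPolynomial.algebraTensorAlgEquiv A p.asIdeal.ResidueField).toRingEquiv

theorem isNoetherianRing_fr (p : PrimeSpectrum A) : IsNoetherianRing (FR A (MvPolynomial (Fin N) A) p) :=
  isNoetherianRing_of_ringEquiv _ (frEquiv p).symm

theorem isDomain_fr (p : PrimeSpectrum A) : IsDomain (FR A (MvPolynomial (Fin N) A) p) :=
  MulEquiv.isDomain (MvPolynomial (Fin N) p.asIdeal.ResidueField) (frEquiv p).toMulEquiv

theorem isRegularRing_fr (p : PrimeSpectrum A) : IsRegularRing (FR A (MvPolynomial (Fin N) A) p) :=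
  IsRegularRing.of_ringEquiv (frEquiv p).symm

theorem dim_fr (p : PrimeSpectrum A) : ringKrullDim (FR A (MvPolynomial (Fin N) A) p) = ((N : ℕ∞) : WithBot ℕ∞) := by
  rw [ringKrullDim_eq_of_ringEquiv (frEquiv p), MvPolynomial.ringKrullDim_of_isNoetherianRing,
    ringKrullDim_eq_zero_of_field, zero_add, Nat.card_eq_fintype_card, Fintype.card_fin]
  rfl

/-- The fibre ring of a quotient. -/
noncomputable def quotFibreEquiv {P : Type u} [CommRing P] [Algebra A P] (I : Ideal P) (p : PrimeSpectrum A) :
    (P ⧸ I) ⊗[A] p.asIdeal.ResidueField ≃+* FR A P p ⧸ I.map (algebraMap P (FR A P p)) :=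
  ((Algebra.TensorProduct.quotIdealMapEquivTensorQuot (FR A P p) I).toRingEquiv.trans
    ((Algebra.TensorProduct.comm P (FR A P p) (P ⧸ I)).toRingEquiv.trans
      (Algebra.TensorProduct.cancelBaseChange A P P (P ⧸ I) p.asIdeal.ResidueField).toRingEquiv)).symm

/-- `Ext` on a fibre, as `Ext` of a quotient of the fibre ring. -/
theorem ef_quot_iff {P : Type u} [CommRing P] [Algebra A P] (I : Ideal P) (p : PrimeSpectrum A) (j : ℕ) :
    Subsingleton (EF (P := P) p (P ⧸ I) j) ↔
      Subsingleton (Ext (ModuleCat.of (FR A P p) (FR A P p ⧸ I.map (algebraMap P (FR A P p))))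
        (ModuleCat.of (FR A P p) (FR A P p)) j) :=
  Field.subsingleton_ext_congr
    (Algebra.TensorProduct.quotIdealMapEquivTensorQuot (FR A P p) I).toLinearEquiv.symm.toModuleIso
    (TensorProduct.AlgebraTensorModule.rid P (FR A P p) (FR A P p)).toModuleIso j

variable (I : Ideal (MvPolynomial (Fin N) A))

/-- The fibre condition is concentration of `Ext` on the fibre. -/
theorem fibre_condition_iff (c n : ℕ) (hcn : c + n = N) (p : PrimeSpectrum A) :
    (LocCoh.IsCohenMacaulayRing ((MvPolynomial (Fin N) A ⧸ I) ⊗[A] p.asIdeal.ResidueField) ∧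
      ∀ Q : PrimeSpectrum ((MvPolynomial (Fin N) A ⧸ I) ⊗[A] p.asIdeal.ResidueField),
        Q.asIdeal ∈ minimalPrimes ((MvPolynomial (Fin N) A ⧸ I) ⊗[A] p.asIdeal.ResidueField) →
          Order.coheight Q = (n : ℕ∞)) ↔
      ∀ j, j ≠ c → Subsingleton (EF (P := MvPolynomial (Fin N) A) p (MvPolynomial (Fin N) A ⧸ I) j) := by
  haveI := isNoetherianRing_fr (N := N) p
  haveI := isDomain_fr (N := N) p
  haveI := isRegularRing_fr (N := N) p
  letI : Algebra p.asIdeal.ResidueField (FR A (MvPolynomial (Fin N) A) p) :=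
    ((frEquiv p).symm.toRingHom.comp MvPolynomial.C).toAlgebra
  haveI : Algebra.FiniteType p.asIdeal.ResidueField (FR A (MvPolynomial (Fin N) A) p) :=
    Algebra.FiniteType.equiv (inferInstanceAs (Algebra.FiniteType _ (MvPolynomial (Fin N) p.asIdeal.ResidueField)))
      (AlgEquiv.ofRingEquiv (f := (frEquiv p).symm) fun _ => rfl)
  rw [cm_coheight_congr (quotFibreEquiv I p) (n : ℕ∞),
    fibre_cm_iff _ _ p.asIdeal.ResidueField N c n hcn (dim_fr p)]
  simp only [ef_quot_iff]

/-- The fibres have projective dimension at most `N`. -/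
theorem pdFib_dim : PdFib A (MvPolynomial (Fin N) A) (MvPolynomial (Fin N) A ⧸ I) N := fun p => by
  haveI := isNoetherianRing_fr (N := N) p
  haveI := isRegularRing_fr (N := N) p
  exact Groth.Agent.H4DR.Hom.hasProjectiveDimensionLT_of_regular
    (fun q => isRegularRing_iff.mp inferInstance q.asIdeal) (dim_fr p) _

/-- The fibres of a Cohen–Macaulay family have projective dimension at most the codimension. -/
theorem pdFib_of_ext (c : ℕ) (hc : c ≤ N)
    (h : ∀ (p : PrimeSpectrum A) (j : ℕ), c < j →
      Subsingleton (EF (P := MvPolynomial (Fin N) A) p (MvPolynomial (Fin N) A ⧸ I) j)) :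
    PdFib A (MvPolynomial (Fin N) A) (MvPolynomial (Fin N) A ⧸ I) c := fun p => by
  haveI := isNoetherianRing_fr (N := N) p
  let C := FR A (MvPolynomial (Fin N) A) p
  refine hasProjectiveDimensionLT_of_ext_self_above (C ⊗[MvPolynomial (Fin N) A] (MvPolynomial (Fin N) A ⧸ I)) c (N - c) ?_
    fun j hj _ => ?_
  · rw [Nat.add_sub_cancel' hc]
    exact pdFib_dim I p
  · exact (Field.subsingleton_ext_congr (Iso.refl _)
      (TensorProduct.AlgebraTensorModule.rid (MvPolynomial (Fin N) A) C C).toModuleIso j).1 (h p j hj)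

end Poly

end Groth.Agent.H02CA.ExtFib.Bridge
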