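import Groth.Agent.H02CA.ExtFib.Bridge
import Mathlib.Algebra.Category.ModuleCat.Ext.Finite

/-!
# Cohen–Macaulay fibres of a flat quotient of a polynomial algebra through `Ext`
-/

set_option autoImplicit false
set_option linter.style.haveILetI false
set_option linter.unusedSectionVars false
set_option backward.isDefEq.respectTransparency false

universe u

open CategoryTheory CategoryTheory.Abelian
open scoped TensorProduct

namespace Groth.Agent.H02CA.ExtFib.Final

section General

variable {A P : Type u} [CommRing A] [CommRing P] [Algebra A P] [Algebra.FinitePresentation A P] [Module.Flat A P]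
  (K : Type u) [AddCommGroup K] [Module P K] [Module A K] [IsScalarTower A P K]
  [Module.FinitePresentation P K] [Module.Flat A K]

/-- From the fibres: concentration, flatness and finite presentation. -/
theorem forward (c : ℕ) (hpd : PdFib A P K c)
    (hvan : ∀ (p : PrimeSpectrum A) (j : ℕ), j < c → Subsingleton (EF (P := P) p K j)) :
    (∀ j, j ≠ c → Subsingleton (E P K j)) ∧
      Module.Flat A (RestrictScalars A P (E P K c)) ∧ Module.FinitePresentation P (E P K c) := by
  cases c with
  | zero =>
    haveI := projective_of_pdFib_zero hpd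
    obtain ⟨h1, h2⟩ := dual_good (A := A) (P := P) K
    let e : Dl P K ≃ₗ[P] E P K 0 := (ExtFlatBC.ext0 (R := P) K P).symm
    refine ⟨fun j hj => ?_, flatA_of_equiv e ((flatA_iff _).2 h2), Module.FinitePresentation.of_equiv e⟩
    obtain ⟨j, rfl⟩ := Nat.exists_eq_add_of_le' (Nat.one_le_iff_ne_zero.2 hj)
    exact subsingleton_E_of_projective j
  | succ c =>
    obtain ⟨h1, h2, h3⟩ := good_of_fibres c K hpd fun p j hj => hvan p j (by omega)
    exact ⟨h1, h3, h2⟩

/-- No `Ext` above the top gives none on the fibres. -/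
theorem pdFib_descend (hC : ∀ p : PrimeSpectrum A, IsNoetherianRing (FR A P p)) (c : ℕ)
    (hvan : ∀ j, c < j → Subsingleton (E P K j)) :
    ∀ k, PdFib A P K (c + k) → PdFib A P K c
  | 0, h => h
  | k + 1, h => pdFib_descend hC c hvan k fun p => by
    haveI := hC p
    haveI := hvan (c + k + 1) (by omega)
    obtain ⟨e⟩ := (top_ext (c + k) K h).2 p
    haveI : Subsingleton (EF (P := P) p K (c + k + 1)) := e.symm.injective.subsingleton
    haveI : HasProjectiveDimensionLT (ModuleCat.of (FR A P p) (FR A P p ⊗[P] K)) (c + k + 2) := h p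
    exact hasProjectiveDimensionLT_of_ext_self (c + k) (FR A P p ⊗[P] K)
      ((Field.subsingleton_ext_congr (Iso.refl _)
        (TensorProduct.AlgebraTensorModule.rid P (FR A P p) (FR A P p)).toModuleIso (c + k + 1)).1 inferInstance)

/-- Concentration and flatness give concentration on the fibres. -/
theorem backward (c : ℕ) (hpd : PdFib A P K c) (hvan : ∀ j, j ≠ c → Subsingleton (E P K j))
    (hfp : Module.FinitePresentation P (E P K c)) (hfl : Module.Flat A (RestrictScalars A P (E P K c)))
    (p : PrimeSpectrum A) (j : ℕ) (hj : j ≠ c) : Subsingleton (EF (P := P) p K j) := by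
  rcases Nat.lt_or_gt_of_ne hj with hlt | hgt
  · obtain ⟨c, rfl⟩ := Nat.exists_eq_add_of_le' (show 1 ≤ c by omega)
    exact fibres_vanish c K hpd (fun i hi => hvan i (by omega)) hfp hfl p j (by omega)
  · haveI := hpd p
    exact HasProjectiveDimensionLT.subsingleton _ (c + 1) j (by omega) _

end General

section Poly

variable (A : Type u) [CommRing A] (N n : ℕ) (hnN : n ≤ N) (I : Ideal (MvPolynomial (Fin N) A))
  [Module.Flat A (MvPolynomial (Fin N) A ⧸ I)]

include hnN in
theorem of_fibres (hI : I.FG)
    (h : ∀ p : PrimeSpectrum A, LocCoh.IsCohenMacaulayRing ((MvPolynomial (Fin N) A ⧸ I) ⊗[A] p.asIdeal.ResidueField) ∧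
      ∀ Q : PrimeSpectrum ((MvPolynomial (Fin N) A ⧸ I) ⊗[A] p.asIdeal.ResidueField),
        Q.asIdeal ∈ minimalPrimes ((MvPolynomial (Fin N) A ⧸ I) ⊗[A] p.asIdeal.ResidueField) →
          Order.coheight Q = (n : ℕ∞)) :
    (∀ j, j ≠ N - n → Subsingleton (E (MvPolynomial (Fin N) A) (MvPolynomial (Fin N) A ⧸ I) j)) ∧
      Module.Flat A (RestrictScalars A (MvPolynomial (Fin N) A)
        (E (MvPolynomial (Fin N) A) (MvPolynomial (Fin N) A ⧸ I) (N - n))) ∧
      Module.FinitePresentation (MvPolynomial (Fin N) A)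
        (E (MvPolynomial (Fin N) A) (MvPolynomial (Fin N) A ⧸ I) (N - n)) := by
  haveI : Module.FinitePresentation (MvPolynomial (Fin N) A) (MvPolynomial (Fin N) A ⧸ I) :=
    Module.finitePresentation_of_surjective (Submodule.mkQ I) (Submodule.mkQ_surjective _) (by rwa [Submodule.ker_mkQ])
  have hf := fun p j => (Bridge.fibre_condition_iff I (N - n) n (by omega) p).1 (h p) j
  exact forward _ (N - n) (Bridge.pdFib_of_ext I (N - n) (Nat.sub_le _ _) fun p j hj => hf p j (by omega))
    fun p j hj => hf p j (by omega)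

include hnN in
theorem iff_ext [IsNoetherianRing A] :
    (∀ p : PrimeSpectrum A, LocCoh.IsCohenMacaulayRing ((MvPolynomial (Fin N) A ⧸ I) ⊗[A] p.asIdeal.ResidueField) ∧
      ∀ Q : PrimeSpectrum ((MvPolynomial (Fin N) A ⧸ I) ⊗[A] p.asIdeal.ResidueField),
        Q.asIdeal ∈ minimalPrimes ((MvPolynomial (Fin N) A ⧸ I) ⊗[A] p.asIdeal.ResidueField) →
          Order.coheight Q = (n : ℕ∞)) ↔
    (∀ j, j ≠ N - n → Subsingleton (E (MvPolynomial (Fin N) A) (MvPolynomial (Fin N) A ⧸ I) j)) ∧
      Module.Flat A (RestrictScalars A (MvPolynomial (Fin N) A)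
        (E (MvPolynomial (Fin N) A) (MvPolynomial (Fin N) A ⧸ I) (N - n))) := by
  refine ⟨fun h => ⟨(of_fibres A N n hnN I (IsNoetherian.noetherian I) h).1,
    (of_fibres A N n hnN I (IsNoetherian.noetherian I) h).2.1⟩, fun ⟨hvan, hfl⟩ p => ?_⟩
  haveI : Module.FinitePresentation (MvPolynomial (Fin N) A) (MvPolynomial (Fin N) A ⧸ I) :=
    Module.finitePresentation_of_finite _ _
  haveI : Module.Finite (MvPolynomial (Fin N) A)
      (E (MvPolynomial (Fin N) A) (MvPolynomial (Fin N) A ⧸ I) (N - n)) := inferInstance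
  have hfp : Module.FinitePresentation (MvPolynomial (Fin N) A)
      (E (MvPolynomial (Fin N) A) (MvPolynomial (Fin N) A ⧸ I) (N - n)) := Module.finitePresentation_of_finite _ _
  have hpd := pdFib_descend (MvPolynomial (Fin N) A ⧸ I) (fun q => Bridge.isNoetherianRing_fr q) (N - n)
    (fun j hj => hvan j (by omega)) n (by rw [Nat.sub_add_cancel hnN]; exact Bridge.pdFib_dim I)
  exact (Bridge.fibre_condition_iff I (N - n) n (by omega) p).2
    (backward _ (N - n) hpd hvan hfp hfl p)

end Poly

end Groth.Agent.H02CA.ExtFib.Final
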