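import Groth.Agent.H02CA.ExtFib.Final
import Groth.Agent.H4LC.GorQuotient
import Groth.Agent.H4LC.DualRestrict
import Groth.Agent.H4LC.ChangeRings
import Groth.Agent.H4Inj.Essential
import Groth.Agent.S7701
import Groth.Agent.H10Inj.SheafExt.Spec
import Groth.Agent.H05EGA4.QFFibre

/-!
# Gorenstein fibres through invertibility of the top `Ext`
-/

set_option autoImplicit false
set_option linter.style.haveILetI false
set_option linter.unusedSectionVars false
set_option backward.isDefEq.respectTransparency false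

universe u

open CategoryTheory CategoryTheory.Abelian IsLocalRing
open scoped TensorProduct

namespace Groth.Agent.H02CA.ExtFib.Gor

/-- The canonical module of a quotient of a Gorenstein local ring is `Ext`. -/
theorem exists_canon_ext (R' : Type u) [CommRing R'] [LocCoh.IsGorensteinLocalRing R'] (J : Ideal R')
    [IsLocalRing (R' ⧸ J)] (r n : ℕ) (hr : ringKrullDim R' = r) (hnJ : ringKrullDim (R' ⧸ J) = n) (hnr : n ≤ r)
    (E : Type u) [AddCommGroup E] [Module (R' ⧸ J) E] (f : IsLocalRing.ResidueField (R' ⧸ J) →ₗ[R' ⧸ J] E)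
    (hf : InjHull.IsInjectiveHull f) :
    ∃ (K : Type u) (_ : AddCommGroup K) (_ : Module (R' ⧸ J) K) (_ : Module R' K) (_ : IsScalarTower R' (R' ⧸ J) K),
      Module.Finite (R' ⧸ J) K ∧
      Nonempty ((K →ₗ[R' ⧸ J] E) ≃ₗ[R' ⧸ J] LocCoh.H (IsLocalRing.maximalIdeal (R' ⧸ J)) n (R' ⧸ J)) ∧
      Nonempty (K ≃ₗ[R'] Ext (ModuleCat.of R' (R' ⧸ J)) (ModuleCat.of R' R') (r - n)) := by
  let R := R' ⧸ J
  have hg : Function.Surjective (algebraMap R' R) := Ideal.Quotient.mk_surjective
  haveI : Module.Finite R' R := Module.Finite.of_surjective (Algebra.linearMap R' R) hg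
  obtain ⟨rs, hlen, hmem, hreg, -⟩ :=
    H4LC.exists_regular_sequence hr hnJ (Nat.add_sub_of_le hnr)
  let Q := R' ⧸ Ideal.ofList rs • (⊤ : Submodule R' R')
  let K := H4Matlis.Coind R' R Q
  letI : Module R' K := Module.compHom K (algebraMap R' R)
  haveI : IsScalarTower R' R K := IsScalarTower.of_algebraMap_smul fun _ _ => rfl
  let ev : K →ₗ[R'] Q :=
    { toFun := H4Matlis.ev
      map_add' := H4Matlis.ev_add
      map_smul' := fun b h => by
        rw [RingHom.id_apply, ← algebraMap_smul R b h, H4Matlis.ev_algebraMap_smul] }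
  have hev : Function.Injective ev := fun a b hab => H4Matlis.ev_ext fun s => by
    obtain ⟨s, rfl⟩ := hg s
    rw [H4Matlis.ev_algebraMap_smul, H4Matlis.ev_algebraMap_smul]
    exact congrArg (s • ·) hab
  haveI : Module.Finite R' K := Module.Finite.of_injective ev hev
  let q : (R' ⧸ J) ≃ₗ[R'] R := (LinearEquiv.refl R' R)
  have heKR : Function.Bijective (fun k : K =>
      (H4Matlis.evHom (LinearMap.toSpanSingleton R K k) : R →ₗ[R'] Q)) := by
    refine ⟨fun a b hab => hev ?_, fun φ => ⟨H4Matlis.ofHom φ, LinearMap.ext fun s =>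
      H4Matlis.ev_smul_ofHom φ s⟩⟩
    have := LinearMap.congr_fun hab 1
    change H4Matlis.ev ((1 : R) • a) = H4Matlis.ev ((1 : R) • b) at this
    rwa [one_smul, one_smul] at this
  let eKR : K ≃ₗ[R'] (R →ₗ[R'] Q) := LinearEquiv.ofBijective
    { toFun := fun k => H4Matlis.evHom (LinearMap.toSpanSingleton R K k)
      map_add' := fun a b => LinearMap.ext fun s => by
        show H4Matlis.ev (s • (a + b)) = _
        rw [smul_add, H4Matlis.ev_add]
        rfl
      map_smul' := fun b a => LinearMap.ext fun s => by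
        show H4Matlis.ev (s • b • a) = b • H4Matlis.ev (s • a)
        rw [← algebraMap_smul R b a, smul_comm, H4Matlis.ev_algebraMap_smul] } heKR
  obtain ⟨-, ⟨eRees⟩⟩ := H4LC.ext_rees (R' ⧸ J) rs R' hreg fun x hx => by
    rw [Ideal.annihilator_quotient]
    exact hmem x hx
  rw [hlen] at eRees
  obtain ⟨g₀, hg₀⟩ := H4Goren.exists_isInjectiveHull_H_top R' r hr
  obtain ⟨Φ, hΦ⟩ := H4LC.exists_dual_restrict_equiv hg hg₀ hf K
  obtain ⟨eD⟩ := H4LC.nonempty_localDuality (M := R' ⧸ J) hr g₀ hg₀ (j := n)
    (c := r - n) (Nat.add_sub_of_le hnr)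
  let eX : K ≃ₗ[R'] Ext (ModuleCat.of R' (R' ⧸ J)) (ModuleCat.of R' R') (r - n) :=
    eKR.trans ((LinearEquiv.congrLeft Q R' q.symm).trans eRees.symm)
  refine ⟨K, inferInstance, inferInstance, inferInstance, inferInstance,
    Module.Finite.of_restrictScalars_finite R' R K, ?_, ⟨eX⟩⟩
  obtain ⟨φ, hφ⟩ := H4LC.exists_H_map_equiv R (IsLocalRing.maximalIdeal R') R n
  let w := ((localCohomology (IsLocalRing.maximalIdeal R') n).mapIso
    q.symm.toModuleIso).toLinearEquiv.trans (eD.trans (LinearEquiv.congrLeft _ R' eX.symm))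
  have hmax := IsLocalRing.map_maximalIdeal_of_surjective _ hg
  revert φ
  rw [hmax]
  intro φ hφ
  refine H4LC.nonempty_linearEquiv_of_semilinear hg Φ hΦ (φ.trans w.toAddEquiv) fun b z => ?_
  show w (φ (algebraMap R' R b • z)) = b • w (φ z)
  rw [hφ, map_smul]

/-- Gorenstein quotients of a regular local ring through `Ext`. -/
theorem gor_iff_local {L : Type u} [CommRing L] [IsRegularLocalRing L] (I : Ideal L)
    (hCM : LocCoh.IsCohenMacaulayLocalRing (L ⧸ I)) (c n : ℕ) (hn : ringKrullDim (L ⧸ I) = n)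
    (hL : ringKrullDim L = (c + n : ℕ)) :
    LocCoh.IsGorensteinLocalRing (L ⧸ I) ↔
      Nonempty (Ext (ModuleCat.of L (L ⧸ I)) (ModuleCat.of L L) c ≃ₗ[L] (L ⧸ I)) := by
  haveI := hCM
  haveI := H4Goren.isGorensteinLocalRing_of_isRegularLocalRing L
  obtain ⟨E, _, _, f, hf⟩ := H4Inj.exists_isInjectiveHull (R := L ⧸ I) (IsLocalRing.ResidueField (L ⧸ I))
  obtain ⟨K, _, _, _, _, _, ⟨eK⟩, ⟨eX⟩⟩ := exists_canon_ext L I (c + n) n hL hn (Nat.le_add_left n c) E f hf
  rw [Nat.add_sub_cancel] at eX
  rw [Groth.Agent.S7701.result (L ⧸ I) n hn E f hf K eK]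
  exact ⟨fun ⟨e⟩ => ⟨eX.symm.trans (e.restrictScalars L)⟩,
    fun ⟨e⟩ => ⟨(eX.trans e).extendScalarsOfSurjective Ideal.Quotient.mk_surjective⟩⟩

section Tensor

/-- Tensor products over a quotient ring. -/
theorem tensor_equiv_of_surjective {P B : Type u} [CommRing P] [CommRing B] [Algebra P B]
    (hs : Function.Surjective (algebraMap P B)) (S : Type u) [CommRing S] [Algebra P S] [Algebra B S] [IsScalarTower P B S]
    (M : Type u) [AddCommGroup M] [Module P M] [Module B M] [IsScalarTower P B M] :
    Nonempty (S ⊗[B] M ≃ₗ[S] S ⊗[P] M) := by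
  haveI : TensorProduct.CompatibleSMul B P S M := inferInstance
  haveI : TensorProduct.CompatibleSMul P B S M := ⟨fun b x m => by
    obtain ⟨r, rfl⟩ := hs b
    rw [algebraMap_smul, algebraMap_smul, TensorProduct.smul_tmul]⟩
  exact ⟨TensorProduct.equivOfCompatibleSMul P B S S M⟩

/-- A local trivialisation gives one over algebras killing the ideal. -/
theorem of_local_iso {P : Type u} [CommRing P] (I : Ideal P) (L : Type u) [CommRing L] [Algebra P L]
    (C' : Type u) [CommRing C'] [Algebra L C'] [Algebra P C'] [IsScalarTower P L C'] [Algebra (P ⧸ I) C'] [IsScalarTower P (P ⧸ I) C']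
    (M : Type u) [AddCommGroup M] [Module P M] [Module (P ⧸ I) M] [IsScalarTower P (P ⧸ I) M]
    (e : L ⊗[P] M ≃ₗ[L] L ⧸ I.map (algebraMap P L)) : Nonempty (C' ⊗[P ⧸ I] M ≃ₗ[C'] C') := by
  obtain ⟨e1⟩ := tensor_equiv_of_surjective (P := P) (B := P ⧸ I) Ideal.Quotient.mk_surjective C' M
  have h0 : (I.map (algebraMap P L)).map (algebraMap L C') = ⊥ := by
    rw [Ideal.map_map, ← IsScalarTower.algebraMap_eq, Ideal.map_eq_bot_iff_le_ker]
    intro x hx
    rw [RingHom.mem_ker, IsScalarTower.algebraMap_apply P (P ⧸ I) C', Ideal.Quotient.algebraMap_eq,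
      Ideal.Quotient.eq_zero_iff_mem.2 hx, map_zero]
  exact ⟨e1.trans ((TensorProduct.AlgebraTensorModule.cancelBaseChange P L C' C' M).symm.trans
    ((e.baseChange L C' _ _).trans
      ((Algebra.TensorProduct.quotIdealMapEquivTensorQuot C' (I.map (algebraMap P L))).toLinearEquiv.symm.trans
        (Submodule.quotEquivOfEqBot _ h0))))⟩

/-- An invertible module over the quotient, seen in a local ring. -/
theorem to_local_iso {P : Type u} [CommRing P] (I : Ideal P) (L : Type u) [CommRing L] [IsLocalRing L] [Algebra P L]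
    (hne : I.map (algebraMap P L) ≠ ⊤)
    (M : Type u) [AddCommGroup M] [Module P M] [Module (P ⧸ I) M] [IsScalarTower P (P ⧸ I) M]
    [Module.Invertible (P ⧸ I) M] : Nonempty (L ⊗[P] M ≃ₗ[L] L ⧸ I.map (algebraMap P L)) := by
  let J := I.map (algebraMap P L)
  let R := L ⧸ J
  haveI : Nontrivial R := Ideal.Quotient.nontrivial_iff.2 hne
  haveI : IsLocalRing R := IsLocalRing.of_surjective' (Ideal.Quotient.mk J) Ideal.Quotient.mk_surjective
  letI : Algebra (P ⧸ I) R := (Ideal.quotientMap J (algebraMap P L) Ideal.le_comap_map).toAlgebra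
  haveI : IsScalarTower P (P ⧸ I) R := IsScalarTower.of_algebraMap_eq fun _ => rfl
  obtain ⟨e1⟩ := tensor_equiv_of_surjective (P := P) (B := P ⧸ I) Ideal.Quotient.mk_surjective R M
  haveI : Module.Free R (R ⊗[P ⧸ I] M) := Module.free_of_flat_of_isLocalRing
  obtain ⟨e2⟩ := Module.Invertible.free_iff_linearEquiv.1 (inferInstance : Module.Free R (R ⊗[P ⧸ I] M))
  have hkill : J • (⊤ : Submodule L (L ⊗[P] M)) = ⊥ := by
    rw [← le_bot_iff, Submodule.smul_le]
    intro x hx y _
    rw [Submodule.mem_bot]
    suffices h : J ≤ (⊥ : Submodule L (L ⊗[P] M)).colon Set.univ by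
      have := Submodule.mem_colon.1 (h hx) y trivial
      simpa using this
    rw [Ideal.map_le_iff_le_comap]
    intro a ha
    rw [Ideal.mem_comap, Submodule.mem_colon]
    intro z hz
    clear hz
    rw [Submodule.mem_bot, algebraMap_smul]
    induction z with
    | zero => exact smul_zero _
    | add u v hu hv => rw [smul_add, hu, hv, add_zero]
    | tmul l m =>
      rw [← TensorProduct.tmul_smul, ← algebraMap_smul (P ⧸ I) a m, Ideal.Quotient.algebraMap_eq,
        Ideal.Quotient.eq_zero_iff_mem.2 ha, zero_smul, TensorProduct.tmul_zero]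
  exact ⟨(Submodule.quotEquivOfEqBot _ hkill).symm.trans ((TensorProduct.quotTensorEquivQuotSMul _ J).symm.trans
    (((TensorProduct.AlgebraTensorModule.cancelBaseChange P L R R M).trans (e1.symm.trans e2)).restrictScalars L))⟩

end Tensor

section Fibres

attribute [local instance] Algebra.TensorProduct.rightAlgebra

open Groth.Agent.H05EGA4 in
/-- The invertibility of a module from that of its fibres. -/
theorem invertible_of_fibres {A B : Type u} [CommRing A] [CommRing B] [IsNoetherianRing B] [Algebra A B]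
    (M : Type u) [AddCommGroup M] [Module B M] [Module.Finite B M] [Module A M] [IsScalarTower A B M] [Module.Flat A M]
    (h : ∀ (p : Ideal A) [p.IsPrime], Module.Invertible (p.ResidueField ⊗[A] B) ((p.ResidueField ⊗[A] B) ⊗[B] M)) :
    Module.Invertible B M := by
  refine QFApply.invertible_of_local fun q hq => ?_
  haveI := hq.isPrime
  let C := Localization.AtPrime q
  refine ⟨C, inferInstance, inferInstance, inferInstance, IsLocalization.flat C q.primeCompl,
    Localization.AtPrime.under_maximalIdeal, ?_⟩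
  haveI : IsNoetherianRing C := IsLocalization.isNoetherianRing q.primeCompl C inferInstance
  haveI : Module.Flat B C := IsLocalization.flat C q.primeCompl
  haveI : Module.Flat A (C ⊗[B] M) := QFFibre.flat_tensor
  let p := q.comap (algebraMap A B)
  let ι : p.ResidueField →+* ResidueField C := ResidueField.map (Localization.localRingHom p q (algebraMap A B) rfl)
  let ρ : p.ResidueField →ₐ[A] ResidueField C :=
    { toRingHom := ι
      commutes' := fun a => by
        show ι (algebraMap A p.ResidueField a) = _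
        rw [IsScalarTower.algebraMap_apply A (Localization.AtPrime p) p.ResidueField]
        show ι (residue _ _) = _
        rw [ResidueField.map_residue, Localization.localRingHom_to_map]
        rfl }
  let F := p.ResidueField ⊗[A] B
  let L := p.ResidueField ⊗[A] C
  letI : Algebra F L := (Algebra.TensorProduct.map (AlgHom.id A p.ResidueField) (IsScalarTower.toAlgHom A B C)).toRingHom.toAlgebra
  letI : Algebra B L := ((algebraMap C L).comp (algebraMap B C)).toAlgebra
  haveI : IsScalarTower B C L := IsScalarTower.of_algebraMap_eq fun b => rfl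
  haveI : IsScalarTower B F L := IsScalarTower.of_algebraMap_eq fun b => rfl
  haveI := h p
  haveI : Module.Invertible L (L ⊗[C] (C ⊗[B] M)) :=
    Module.Invertible.congr ((TensorProduct.AlgebraTensorModule.cancelBaseChange B F L L M).trans
      (TensorProduct.AlgebraTensorModule.cancelBaseChange B C L L M).symm)
  exact QFFibre.nonempty_equiv_of_fibre ρ inferInstance

end Fibres

end Groth.Agent.H02CA.ExtFib.Gor
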