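import Groth.Agent.H02CA.ExtFib.Gor
import Groth.Agent.H02CA.GorFlat
import Mathlib.Algebra.Module.Torsion.Basic

/-!
# Gorenstein fibres of a flat Cohen–Macaulay quotient of a polynomial algebra
-/

set_option autoImplicit false
set_option linter.style.haveILetI false
set_option linter.unusedSectionVars false
set_option backward.isDefEq.respectTransparency false
set_option maxHeartbeats 1000000
set_option synthInstance.maxHeartbeats 200000

universe u

open CategoryTheory CategoryTheory.Abelian IsLocalRing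
open scoped TensorProduct

namespace Groth.Agent.H02CA.ExtFib.GorFinal

/-- An ideal killing the first variable kills `Ext`. -/
theorem isTorsion_ext {P : Type u} [CommRing P] (I : Ideal P) (N : ModuleCat.{u} P) (c : ℕ) :
    Module.IsTorsionBySet P (Ext (ModuleCat.of P (P ⧸ I)) N c) (I : Set P) := by
  intro x a
  have h : (a : P) • 𝟙 (ModuleCat.of P (P ⧸ I)) = 0 := ModuleCat.hom_ext (LinearMap.ext fun y => by
    obtain ⟨z, rfl⟩ := Ideal.Quotient.mk_surjective y
    show (a : P) • Ideal.Quotient.mk I z = 0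
    exact Ideal.Quotient.eq_zero_iff_mem.2 (I.mul_mem_right z a.2))
  show (a : P) • x = 0
  rw [← Ext.mk₀_id_comp x, ← Ext.smul_comp, ← Ext.mk₀_smul, h, Ext.mk₀_zero, Ext.zero_comp]

variable {A : Type u} [CommRing A]

section General

variable {P : Type u} [CommRing P] [Algebra A P] [Algebra.FinitePresentation A P] [Module.Flat A P]

/-- The top `Ext` commutes with passage to the fibres, in every degree. -/
theorem top_iso (c : ℕ) (K : Type u) [AddCommGroup K] [Module P K] [Module A K] [IsScalarTower A P K]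
    [Module.FinitePresentation P K] [Module.Flat A K] (h : PdFib A P K c) (p : PrimeSpectrum A) :
    Nonempty (FR A P p ⊗[P] E P K c ≃ₗ[FR A P p] EF (P := P) p K c) := by
  cases c with
  | zero =>
    haveI := projective_of_pdFib_zero h
    exact ⟨((ExtFlatBC.ext0 (R := P) K P).baseChange P (FR A P p) _ _).trans
      ((LinearEquiv.ofBijective _ (Φ_bijective_projective (FR A P p))).trans
        (ExtFlatBC.ext0 (R := FR A P p) (FR A P p ⊗[P] K) (FR A P p ⊗[P] P)).symm)⟩
  | succ c => exact (top_ext c K h).2 p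

/-- The top `Ext` of a fibre, as `Ext` of a quotient of the fibre ring. -/
theorem ef_top (I : Ideal P) [Module.FinitePresentation P (P ⧸ I)] [Module.Flat A (P ⧸ I)] (c : ℕ)
    (h : PdFib A P (P ⧸ I) c) (p : PrimeSpectrum A) :
    Nonempty (FR A P p ⊗[P] E P (P ⧸ I) c ≃ₗ[FR A P p] Ext (ModuleCat.of (FR A P p)
      (FR A P p ⧸ I.map (algebraMap P (FR A P p)))) (ModuleCat.of (FR A P p) (FR A P p)) c) := by
  obtain ⟨e1⟩ := top_iso c (P ⧸ I) h p
  exact ⟨e1.trans (H10Inj.SheafExt.extCongr
    (Algebra.TensorProduct.quotIdealMapEquivTensorQuot (FR A P p) I).toLinearEquiv.toModuleIso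
    (TensorProduct.AlgebraTensorModule.rid P (FR A P p) (FR A P p)).toModuleIso c)⟩

end General

/-- At a prime of a regular algebra, Gorenstein is triviality of the only `Ext`. -/
theorem local_abs {P : Type u} [CommRing P] (I : Ideal P) (C : Type u) [CommRing C] [IsNoetherianRing C] [IsRegularRing C]
    [Algebra P C] (M : Type u) [AddCommGroup M] [Module P M] (c : ℕ)
    (e1 : C ⊗[P] M ≃ₗ[C] Ext (ModuleCat.of C (C ⧸ I.map (algebraMap P C))) (ModuleCat.of C C) c)
    (hext : ∀ j, j ≠ c → Subsingleton (Ext (ModuleCat.of C (C ⧸ I.map (algebraMap P C))) (ModuleCat.of C C) j))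
    (hCMD : LocCoh.IsCohenMacaulayRing (C ⧸ I.map (algebraMap P C)))
    (Q : Ideal C) [Q.IsPrime] (hQ : I.map (algebraMap P C) ≤ Q) :
    LocCoh.IsGorensteinLocalRing (Localization.AtPrime Q ⧸
        (I.map (algebraMap P C)).map (algebraMap C (Localization.AtPrime Q))) ↔
      Nonempty (Localization.AtPrime Q ⊗[P] M ≃ₗ[Localization.AtPrime Q]
        Localization.AtPrime Q ⧸ I.map (algebraMap P (Localization.AtPrime Q))) := by
  let J := I.map (algebraMap P C)
  let L := Localization.AtPrime Q
  let JL := J.map (algebraMap C L)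
  haveI : IsRegularLocalRing L := isRegularRing_iff.mp inferInstance Q
  haveI : Module.Flat C L := IsLocalization.flat L Q.primeCompl
  have hextL : ∀ j, j ≠ c → Subsingleton (Ext (ModuleCat.of L (L ⧸ JL)) (ModuleCat.of L L) j) := fun j hj => by
    haveI := hext j hj
    exact (Field.ext_localized J Q j).1 inferInstance
  have hne : JL ≠ ⊤ := ne_top_of_le_ne_top (maximalIdeal.isMaximal _).ne_top
    (Localization.AtPrime.map_eq_maximalIdeal (I := Q) ▸ Ideal.map_mono hQ)
  haveI := hCMD
  obtain ⟨eQ⟩ := Field.isLocalization_quotient J Q hQ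
  haveI := Ideal.map_isPrime_of_surjective (f := Ideal.Quotient.mk J) (I := Q) Ideal.Quotient.mk_surjective
    (by rw [Ideal.mk_ker]; exact hQ)
  haveI := LocCoh.IsCohenMacaulayRing.isCohenMacaulayLocalRing_localization (Q.map (Ideal.Quotient.mk J))
  have hCM := H8Props.CMAt.isCohenMacaulayLocalRing_of_ringEquiv eQ
  obtain ⟨d, hd, hL⟩ := Field.depth_local_of_ext JL hne c hextL
  have hn : ringKrullDim (L ⧸ JL) = d := by
    have hcm := H3CAlg.CMTor.isCM_quotient JL hCM
    unfold LocCoh.IsCohenMacaulayModule at hcm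
    rw [hd, Module.supportDim_quotient_eq_ringKrullDim] at hcm
    exact hcm
  rw [Gor.gor_iff_local JL hCM c d hn hL]
  obtain ⟨e3⟩ := ExtFlatBC.nonempty_ext_equiv (A := C) L C c (C ⧸ J)
  let e4 := H10Inj.SheafExt.extCongr (R := L) (N := ModuleCat.of L (L ⊗[C] C)) (N' := ModuleCat.of L L)
    (M := ModuleCat.of L (L ⊗[C] (C ⧸ J))) (M' := ModuleCat.of L (L ⧸ JL))
    (Algebra.TensorProduct.quotIdealMapEquivTensorQuot L J).toLinearEquiv.toModuleIso
    (TensorProduct.AlgebraTensorModule.rid C L L).toModuleIso c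
  let e : L ⊗[P] M ≃ₗ[L] Ext (ModuleCat.of L (L ⧸ JL)) (ModuleCat.of L L) c :=
    (TensorProduct.AlgebraTensorModule.cancelBaseChange P C L L M).symm.trans
      ((e1.baseChange C L _ _).trans (e3.trans e4))
  have hJL : JL = I.map (algebraMap P L) := by
    rw [IsScalarTower.algebraMap_eq P C L, ← Ideal.map_map]
  exact ⟨fun ⟨f⟩ => ⟨e.trans (f.trans (Submodule.quotEquivOfEq _ _ hJL))⟩,
    fun ⟨f⟩ => ⟨e.symm.trans (f.trans (Submodule.quotEquivOfEq _ _ hJL.symm))⟩⟩

section Fibres

attribute [local instance] Algebra.TensorProduct.rightAlgebra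

/-- Invertibility from local isomorphisms on the fibres. -/
theorem invertible_of_local_isos {P : Type u} [CommRing P] [Algebra A P] (I : Ideal P) [IsNoetherianRing (P ⧸ I)]
    (hN : ∀ p : PrimeSpectrum A, IsNoetherianRing (FR A P p))
    (M : Type u) [AddCommGroup M] [Module P M] [Module (P ⧸ I) M] [IsScalarTower P (P ⧸ I) M]
    [Module A M] [IsScalarTower A (P ⧸ I) M] [Module.Finite (P ⧸ I) M] [Module.Flat A M]
    (h : ∀ (p : PrimeSpectrum A) (Q : Ideal (FR A P p)) [Q.IsPrime], I.map (algebraMap P (FR A P p)) ≤ Q →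
      Nonempty (Localization.AtPrime Q ⊗[P] M ≃ₗ[Localization.AtPrime Q]
        Localization.AtPrime Q ⧸ I.map (algebraMap P (Localization.AtPrime Q)))) :
    Module.Invertible (P ⧸ I) M := by
  refine Gor.invertible_of_fibres (A := A) M fun p hp => ?_
  let pp : PrimeSpectrum A := ⟨p, hp⟩
  let C := FR A P pp
  let F := p.ResidueField ⊗[A] (P ⧸ I)
  haveI := hN pp
  let φ : C →ₐ[A] F := (Algebra.TensorProduct.comm A (P ⧸ I) p.ResidueField).toAlgHom.comp
    (Algebra.TensorProduct.map (Ideal.Quotient.mkₐ A I) (AlgHom.id A p.ResidueField))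
  have hφ : Function.Surjective φ := by
    intro z
    induction (z : p.ResidueField ⊗[A] (P ⧸ I)) using TensorProduct.induction_on with
    | zero => exact ⟨0, map_zero _⟩
    | tmul k b =>
      obtain ⟨x, rfl⟩ := Ideal.Quotient.mk_surjective b
      exact ⟨x ⊗ₜ k, rfl⟩
    | add a b ha hb =>
      obtain ⟨x, rfl⟩ := ha
      obtain ⟨y, rfl⟩ := hb
      exact ⟨x + y, map_add _ _ _⟩
  haveI : IsNoetherianRing F := isNoetherianRing_of_surjective C F φ.toRingHom hφ
  refine H05EGA4.QFApply.invertible_of_local fun q hq => ?_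
  haveI := hq.isPrime
  let Q := q.comap φ.toRingHom
  have hφ0 : ∀ x : P, φ (algebraMap P C x) = algebraMap (P ⧸ I) F (Ideal.Quotient.mk I x) := fun x => rfl
  have hJ : I.map (algebraMap P C) ≤ Q := Ideal.map_le_iff_le_comap.2 fun x hx => by
    show φ (algebraMap P C x) ∈ q
    rw [hφ0, Ideal.Quotient.eq_zero_iff_mem.2 hx, map_zero]
    exact q.zero_mem
  obtain ⟨e⟩ := h pp Q hJ
  let C' := Localization.AtPrime q
  letI : Algebra (Localization.AtPrime Q) C' := (Localization.localRingHom Q q φ.toRingHom rfl).toAlgebra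
  letI : Algebra P C' := ((algebraMap F C').comp ((algebraMap (P ⧸ I) F).comp (Ideal.Quotient.mk I))).toAlgebra
  haveI : IsScalarTower P (P ⧸ I) C' := ⟨fun x y z => by
    obtain ⟨y, rfl⟩ := Ideal.Quotient.mk_surjective y
    rw [show x • Ideal.Quotient.mk I y = Ideal.Quotient.mk I (x * y) from rfl, Algebra.smul_def, Algebra.smul_def,
      Algebra.smul_def, map_mul (Ideal.Quotient.mk I), map_mul, mul_assoc]
    rfl⟩
  haveI : IsScalarTower P (Localization.AtPrime Q) C' := IsScalarTower.of_algebraMap_eq fun x => by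
    rw [IsScalarTower.algebraMap_apply P C (Localization.AtPrime Q)]
    show _ = Localization.localRingHom Q q φ.toRingHom rfl (algebraMap C _ (algebraMap P C x))
    rw [Localization.localRingHom_to_map]
    rfl
  obtain ⟨e'⟩ := Gor.of_local_iso I (Localization.AtPrime Q) C' M e
  exact ⟨C', inferInstance, inferInstance, inferInstance, IsLocalization.flat C' q.primeCompl,
    Localization.AtPrime.under_maximalIdeal,
    ⟨(TensorProduct.AlgebraTensorModule.cancelBaseChange (P ⧸ I) F C' C' M).trans e'⟩⟩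

end Fibres

section Abstract

variable {P : Type u} [CommRing P] [Algebra A P] [Algebra.FinitePresentation A P] [Module.Flat A P] [IsNoetherianRing P]
  (I : Ideal P) [Module.Flat A (P ⧸ I)]

/-- Invertibility of the top `Ext` and Gorenstein fibres, over a regular family. -/
theorem iff_abs (c : ℕ) (hN : ∀ p : PrimeSpectrum A, IsNoetherianRing (FR A P p))
    (hR : ∀ p : PrimeSpectrum A, IsRegularRing (FR A P p)) (hpd : PdFib A P (P ⧸ I) c)
    (hEF : ∀ (p : PrimeSpectrum A) (j : ℕ), j ≠ c → Subsingleton (EF (P := P) p (P ⧸ I) j))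
    (hCMD : ∀ p : PrimeSpectrum A, LocCoh.IsCohenMacaulayRing (FR A P p ⧸ I.map (algebraMap P (FR A P p))))
    (hfl : Module.Flat A (RestrictScalars A P (E P (P ⧸ I) c))) :
    (∃ (L : Type u) (_ : AddCommGroup L) (_ : Module (P ⧸ I) L),
      Module.Invertible (P ⧸ I) L ∧ Nonempty (RestrictScalars P (P ⧸ I) L ≃ₗ[P] E P (P ⧸ I) c)) ↔
    ∀ p : PrimeSpectrum A, LocCoh.IsGorensteinRing ((P ⧸ I) ⊗[A] p.asIdeal.ResidueField) := by
  haveI : Module.FinitePresentation P (P ⧸ I) := Module.finitePresentation_of_finite _ _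
  let M := E P (P ⧸ I) c
  have key : ∀ (p : PrimeSpectrum A) (Q : Ideal (FR A P p)) [Q.IsPrime], I.map (algebraMap P (FR A P p)) ≤ Q →
      (LocCoh.IsGorensteinLocalRing (Localization.AtPrime Q ⧸
          (I.map (algebraMap P (FR A P p))).map (algebraMap _ (Localization.AtPrime Q))) ↔
        Nonempty (Localization.AtPrime Q ⊗[P] M ≃ₗ[Localization.AtPrime Q]
          Localization.AtPrime Q ⧸ I.map (algebraMap P (Localization.AtPrime Q)))) := fun p Q _ hQ => by
    haveI := hN p
    haveI := hR p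
    obtain ⟨e1⟩ := ef_top I c hpd p
    exact local_abs I (FR A P p) M c e1 (fun j hj => (Bridge.ef_quot_iff I p j).1 (hEF p j hj)) (hCMD p) Q hQ
  constructor
  · rintro ⟨Lb, _, _, hinv, ⟨e⟩⟩ p
    letI : Module P Lb := Module.compHom Lb (Ideal.Quotient.mk I)
    haveI : IsScalarTower P (P ⧸ I) Lb := ⟨fun x y z => by
      obtain ⟨y, rfl⟩ := Ideal.Quotient.mk_surjective y
      show Ideal.Quotient.mk I (x * y) • z = Ideal.Quotient.mk I x • Ideal.Quotient.mk I y • z
      rw [map_mul, mul_smul]⟩
    let e' : Lb ≃ₗ[P] M :=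
      { (RestrictScalars.addEquiv P (P ⧸ I) Lb).symm.trans e.toAddEquiv with
        map_smul' := fun r x => e.map_smul r ((RestrictScalars.addEquiv P (P ⧸ I) Lb).symm x) }
    let C := FR A P p
    let J := I.map (algebraMap P C)
    haveI := hN p
    refine H02CA.GorFlat.isGorensteinRing_of_ringEquiv (Bridge.quotFibreEquiv I p).symm ?_
    refine { isGorensteinLocalRing_localization := fun Qb _ => ?_ }
    let Q := Qb.comap (Ideal.Quotient.mk J)
    have hQ : J ≤ Q := (Ideal.mk_ker (I := J)).ge.trans (Ideal.ker_le_comap _)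
    obtain ⟨eQ⟩ := Field.isLocalization_quotient J Q hQ
    have hne : I.map (algebraMap P (Localization.AtPrime Q)) ≠ ⊤ := by
      rw [IsScalarTower.algebraMap_eq P C (Localization.AtPrime Q), ← Ideal.map_map]
      exact ne_top_of_le_ne_top (maximalIdeal.isMaximal _).ne_top
        (Localization.AtPrime.map_eq_maximalIdeal (I := Q) ▸ Ideal.map_mono hQ)
    haveI := hinv
    obtain ⟨f⟩ := Gor.to_local_iso I (Localization.AtPrime Q) hne Lb
    have hgor := (key p Q hQ).2 ⟨(e'.symm.baseChange P (Localization.AtPrime Q) _ _).trans f⟩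
    haveI := Ideal.map_isPrime_of_surjective (f := Ideal.Quotient.mk J) (I := Q) Ideal.Quotient.mk_surjective
      (by rw [Ideal.mk_ker]; exact hQ)
    suffices ∀ (Q' : Ideal (C ⧸ J)) [Q'.IsPrime], Q.map (Ideal.Quotient.mk J) = Q' →
        LocCoh.IsGorensteinLocalRing (Localization.AtPrime Q') from
      this Qb (Ideal.map_comap_of_surjective _ Ideal.Quotient.mk_surjective Qb)
    intro Q' _ hQ'
    subst hQ'
    exact H02CA.GorFlat.gor_of_ringEquiv eQ.symm hgor
  · intro h
    let htor := isTorsion_ext I (ModuleCat.of P P) c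
    letI : Module (P ⧸ I) M := htor.module
    haveI : IsScalarTower P (P ⧸ I) M := htor.isScalarTower
    refine ⟨M, inferInstance, inferInstance, ?_, ⟨unRestrict P (P ⧸ I) M⟩⟩
    letI : Module A M := Module.compHom M (algebraMap A P)
    haveI : IsScalarTower A P M := .of_algebraMap_smul fun _ _ => rfl
    haveI : IsScalarTower A (P ⧸ I) M := .of_algebraMap_smul fun a m => by
      rw [IsScalarTower.algebraMap_apply A P (P ⧸ I), algebraMap_smul, algebraMap_smul]
    haveI : Module.Flat A M := (flatA_iff M).1 hfl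
    haveI : Module.Finite P M := inferInstance
    haveI : Module.Finite (P ⧸ I) M := Module.Finite.of_restrictScalars_finite P _ _
    refine invertible_of_local_isos I hN M fun p Q _ hQ => ?_
    let C := FR A P p
    let J := I.map (algebraMap P C)
    haveI := hN p
    obtain ⟨eQ⟩ := Field.isLocalization_quotient J Q hQ
    haveI := Ideal.map_isPrime_of_surjective (f := Ideal.Quotient.mk J) (I := Q) Ideal.Quotient.mk_surjective
      (by rw [Ideal.mk_ker]; exact hQ)
    have hD := H02CA.GorFlat.isGorensteinRing_of_ringEquiv (Bridge.quotFibreEquiv I p) (h p)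
    exact (key p Q hQ).1
      (H02CA.GorFlat.gor_of_ringEquiv eQ (hD.isGorensteinLocalRing_localization (Q.map (Ideal.Quotient.mk J))))

end Abstract

section Poly

/-- Invertibility of the top `Ext` and Gorenstein fibres. -/
theorem iff_gorenstein [IsNoetherianRing A] (N c n : ℕ) (hcn : c + n = N) (I : Ideal (MvPolynomial (Fin N) A))
    [Module.Flat A (MvPolynomial (Fin N) A ⧸ I)]
    (hvan : ∀ j, j ≠ c → Subsingleton (E (MvPolynomial (Fin N) A) (MvPolynomial (Fin N) A ⧸ I) j))
    (hfl : Module.Flat A (RestrictScalars A (MvPolynomial (Fin N) A)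
      (E (MvPolynomial (Fin N) A) (MvPolynomial (Fin N) A ⧸ I) c))) :
    (∃ (L : Type u) (_ : AddCommGroup L) (_ : Module (MvPolynomial (Fin N) A ⧸ I) L),
      Module.Invertible (MvPolynomial (Fin N) A ⧸ I) L ∧
        Nonempty (RestrictScalars (MvPolynomial (Fin N) A) (MvPolynomial (Fin N) A ⧸ I) L ≃ₗ[MvPolynomial (Fin N) A]
          E (MvPolynomial (Fin N) A) (MvPolynomial (Fin N) A ⧸ I) c)) ↔
    ∀ p : PrimeSpectrum A,
      LocCoh.IsGorensteinRing ((MvPolynomial (Fin N) A ⧸ I) ⊗[A] p.asIdeal.ResidueField) := by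
  haveI : Module.FinitePresentation (MvPolynomial (Fin N) A) (MvPolynomial (Fin N) A ⧸ I) :=
    Module.finitePresentation_of_finite _ _
  have hfp : Module.FinitePresentation (MvPolynomial (Fin N) A)
      (E (MvPolynomial (Fin N) A) (MvPolynomial (Fin N) A ⧸ I) c) := Module.finitePresentation_of_finite _ _
  have hpd := Final.pdFib_descend (MvPolynomial (Fin N) A ⧸ I) (fun q => Bridge.isNoetherianRing_fr q) c
    (fun j hj => hvan j (by omega)) n (by rw [hcn]; exact Bridge.pdFib_dim I)
  have hEF := fun p => Final.backward (MvPolynomial (Fin N) A ⧸ I) c hpd hvan hfp hfl p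
  exact iff_abs I c (fun q => Bridge.isNoetherianRing_fr q) (fun q => Bridge.isRegularRing_fr q) hpd hEF
    (fun p => ((Bridge.cm_coheight_congr (Bridge.quotFibreEquiv I p) (n : ℕ∞)).1
      ((Bridge.fibre_condition_iff I c n hcn p).2 (hEF p))).1) hfl

end Poly

end Groth.Agent.H02CA.ExtFib.GorFinal
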