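import Groth.Agent.H02CA.ExtFib.Basic

/-!
# Concentration and flatness of `Ext(K, P)` from the fibres, and conversely
-/

set_option autoImplicit false
set_option linter.style.haveILetI false
set_option linter.unusedSectionVars false
set_option backward.isDefEq.respectTransparency false
set_option maxHeartbeats 1000000
set_option synthInstance.maxHeartbeats 400000

universe u

open CategoryTheory CategoryTheory.Abelian
open scoped TensorProduct

namespace Groth.Agent.H02CA.ExtFib

open Groth.Agent.H02CA.ExtFlatBC (Φ Φ_natural Φ_bijective_free ext_shift ext0)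

variable {A P : Type u} [CommRing A] [CommRing P] [Algebra A P]

section Transport

/-- Injectivity on the fibre, over the base. -/
theorem injective_lTensor_residue {Y G : Type u} [AddCommGroup Y] [Module P Y] [Module A Y] [IsScalarTower A P Y]
    [AddCommGroup G] [Module P G] [Module A G] [IsScalarTower A P G] (u : Y →ₗ[P] G) (κ : Type u) [CommRing κ] [Algebra A κ]
    (h : Function.Injective (u.baseChange (P ⊗[A] κ))) : Function.Injective ((u.restrictScalars A).lTensor κ) := by
  rw [LinearMap.lTensor_inj_iff_rTensor_inj]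
  let e (X : Type u) [AddCommGroup X] [Module P X] [Module A X] [IsScalarTower A P X] :
      (P ⊗[A] κ) ⊗[P] X ≃ X ⊗[A] κ :=
    (TensorProduct.comm P (P ⊗[A] κ) X).toEquiv.trans
      (TensorProduct.AlgebraTensorModule.cancelBaseChange A P P X κ).toEquiv
  have key : ∀ x, e G (u.baseChange (P ⊗[A] κ) x) = (u.restrictScalars A).rTensor κ (e Y x) := by
    intro x
    induction x with
    | zero => simp [e]
    | tmul l c =>
      induction l with
      | zero => simp [e]
      | tmul b k => simp [e, LinearMap.map_smul_of_tower]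
      | add c d hc hd => simp only [e, TensorProduct.add_tmul, map_add, Equiv.trans_apply, LinearEquiv.coe_toEquiv] at hc hd ⊢; rw [hc, hd]
    | add a b ha hb => simp only [e, map_add, Equiv.trans_apply, LinearEquiv.coe_toEquiv] at ha hb ⊢; rw [ha, hb]
  intro x y hxy
  obtain ⟨x, rfl⟩ := (e Y).surjective x
  obtain ⟨y, rfl⟩ := (e Y).surjective y
  rw [← key, ← key] at hxy
  exact congrArg _ (h ((e G).injective hxy))

end Transport

variable [Algebra.FinitePresentation A P] [Module.Flat A P]

/-- A map of finitely presented flat modules injective on the fibres. -/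
theorem quotient_good {Y G : Type u} [AddCommGroup Y] [Module P Y] [Module A Y] [IsScalarTower A P Y]
    [Module.FinitePresentation P Y] [Module.Flat A Y] [AddCommGroup G] [Module P G] [Module A G] [IsScalarTower A P G]
    [Module.FinitePresentation P G] [Module.Flat A G] (u : Y →ₗ[P] G)
    (h : ∀ p : PrimeSpectrum A, Function.Injective (u.baseChange (FR A P p))) :
    Function.Injective u ∧ Module.Flat A (G ⧸ LinearMap.range u) ∧
      Module.FinitePresentation P (G ⧸ LinearMap.range u) := by
  haveI : IsLocalization (⊥ : Submonoid P) P := IsLocalization.self fun x hx => by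
    rw [Submonoid.mem_bot.1 hx]; exact isUnit_one
  have hu : FlatCA.UnivInj A (u.restrictScalars A) :=
    Groth.Agent.H7Flat.UnivInjFibres.univInj_of_fibres (B := P) (L := P) (⊥ : Submonoid P) Y G (u.restrictScalars A)
      fun p hp => injective_lTensor_residue u p.ResidueField (h ⟨p, hp⟩)
  refine ⟨fun x y hxy => ?_, ?_, ?_⟩
  · have h1 : (u.restrictScalars A).lTensor A ((1 : A) ⊗ₜ x) = (u.restrictScalars A).lTensor A ((1 : A) ⊗ₜ y) := by
      rw [LinearMap.lTensor_tmul, LinearMap.lTensor_tmul]
      exact congrArg (fun t => (1 : A) ⊗ₜ[A] t) hxy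
    simpa using congrArg (TensorProduct.lid A Y) (hu A h1)
  · haveI := Groth.Agent.H7Flat.HenselianFlatSpec.flat_coker_of_univInj (u.restrictScalars A) fun Q _ _ => hu Q
    exact Module.Flat.of_linearEquiv (R := A) (M := G ⧸ LinearMap.range (u.restrictScalars A)) (N := G ⧸ LinearMap.range u)
      (Submodule.Quotient.restrictScalarsEquiv A (LinearMap.range u)).symm
  · refine Module.finitePresentation_of_surjective _ (Submodule.mkQ_surjective _) ?_
    rw [Submodule.ker_mkQ, LinearMap.range_eq_map]
    exact Module.Finite.fg_top.map u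

/-- Duals of finite projective modules are finitely presented and flat over the base. -/
theorem dual_good (F : Type u) [AddCommGroup F] [Module P F] [Module A F] [IsScalarTower A P F] [Module.Finite P F]
    [Module.Projective P F] : Module.FinitePresentation P (Dl P F) ∧ Module.Flat A (Dl P F) :=
  ⟨Module.finitePresentation_of_projective _ _, Module.Flat.trans A P _⟩

/-- A map killing the kernel factors. -/
theorem exists_factor {C L G M N : Type u} [CommRing C] [AddCommGroup L] [Module C L] [AddCommGroup G] [Module C G]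
    [AddCommGroup M] [Module C M] [AddCommGroup N] [Module C N] {i : L →ₗ[C] G} {π : G →ₗ[C] M} (hex : Function.Exact i π)
    (hπ : Function.Surjective π) (g : G →ₗ[C] N) (h : g ∘ₗ i = 0) : ∃ φ : M →ₗ[C] N, g = φ ∘ₗ π := by
  let e := hex.linearEquivOfSurjective hπ
  refine ⟨(LinearMap.range i).liftQ g (LinearMap.range_le_ker_iff.2 h) ∘ₗ e.symm.toLinearMap, LinearMap.ext fun w => ?_⟩
  rw [LinearMap.comp_apply, LinearMap.comp_apply, LinearEquiv.coe_coe,
    show e.symm (π w) = (LinearMap.range i).mkQ w from e.symm_apply_eq.2 rfl]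
  rfl

/-- Exactness after base change. -/
theorem exists_preimage {C D G H : Type u} [CommRing C] [Algebra P C] [AddCommGroup D] [Module P D] [AddCommGroup G]
    [Module P G] [AddCommGroup H] [Module P H] {ι : D →ₗ[P] G} {q : G →ₗ[P] H} (hex : Function.Exact ι q)
    (hq : Function.Surjective q) (z : C ⊗[P] G) (h : q.baseChange C z = 0) : ∃ x, ι.baseChange C x = z :=
  ((lTensor_exact C hex hq) z).1 h

/-- Exactness after base change, at a range. -/
theorem exists_preimage_range {C D G H : Type u} [CommRing C] [Algebra P C] [AddCommGroup D] [Module P D] [AddCommGroup G]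
    [Module P G] [AddCommGroup H] [Module P H] (ι : D →ₗ[P] G) (b : G →ₗ[P] H) (hex : Function.Exact ι b.rangeRestrict)
    (z : C ⊗[P] G) (h : b.rangeRestrict.baseChange C z = 0) : ∃ x, ι.baseChange C x = z :=
  exists_preimage hex b.surjective_rangeRestrict z h

/-- A submodule with good quotient. -/
theorem submodule_good {H : Type u} [AddCommGroup H] [Module P H] [Module A H] [IsScalarTower A P H]
    [Module.FinitePresentation P H] [Module.Flat A H] (R : Submodule P H) [Module.FinitePresentation P (H ⧸ R)]
    [Module.Flat A (H ⧸ R)] :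
    Module.FinitePresentation P R ∧ Module.Flat A R ∧
      ∀ (κ : Type u) [CommRing κ] [Algebra A κ], Function.Injective (R.subtype.baseChange (P ⊗[A] κ)) := by
  haveI := Groth.Agent.H06EGA11.finitePresentation_ker (A := A) R.mkQ R.mkQ_surjective
  haveI := flatA_ker (A := A) R.mkQ R.mkQ_surjective
  exact ⟨Module.FinitePresentation.of_equiv (LinearEquiv.ofEq _ _ (Submodule.ker_mkQ R)),
    Module.Flat.of_linearEquiv ((LinearEquiv.ofEq _ _ (Submodule.ker_mkQ R).symm).restrictScalars A),
    fun κ _ _ => Groth.Agent.H06EGA11.baseChange_injective_of_flat R.subtype R.mkQ R.injective_subtype R.mkQ_surjective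
      (LinearMap.exact_subtype_mkQ R) κ⟩

/-- Transfer along an isomorphism. -/
theorem good_of_equiv {M N : Type u} [AddCommGroup M] [Module P M] [Module A M] [IsScalarTower A P M]
    [AddCommGroup N] [Module P N] [Module A N] [IsScalarTower A P N] [Module.FinitePresentation P M] [Module.Flat A M]
    (e : M ≃ₗ[P] N) : Module.FinitePresentation P N ∧ Module.Flat A N :=
  ⟨Module.FinitePresentation.of_equiv e, Module.Flat.of_linearEquiv (e.restrictScalars A).symm⟩

variable {K : Type u} [AddCommGroup K] [Module P K] [Module A K] [IsScalarTower A P K]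
  {Y : Type u} [AddCommGroup Y] [Module P Y] (s : Step A P K) (δ : Y →ₗ[P] Dl P K)

/-- Composition with the projection. -/
noncomputable abbrev eta : Y →ₗ[P] Dl P (Fin s.r → P) := LinearMap.lcomp P P s.π ∘ₗ δ

theorem range_eta_le : LinearMap.range (eta s δ) ≤ LinearMap.ker (LinearMap.lcomp P P (LinearMap.ker s.π).subtype) := by
  rintro _ ⟨y, rfl⟩
  exact LinearMap.mem_ker.2 (LinearMap.ext fun x => by simp [eta])

/-- The next map of the induction. -/
noncomputable abbrev next : (Dl P (Fin s.r → P) ⧸ LinearMap.range (eta s δ)) →ₗ[P] Dl P (LinearMap.ker s.π) :=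
  (LinearMap.range (eta s δ)).liftQ (LinearMap.lcomp P P (LinearMap.ker s.π).subtype) (range_eta_le s δ)

theorem Φ_next (B : Type u) [CommRing B] [Algebra P B] (z : B ⊗[P] Dl P (Fin s.r → P)) :
    Φ (A := P) B (LinearMap.ker s.π) P ((next s δ).baseChange B ((LinearMap.range (eta s δ)).mkQ.baseChange B z)) =
      Φ (A := P) B (Fin s.r → P) P z ∘ₗ (LinearMap.ker s.π).subtype.baseChange B := by
  rw [← LinearMap.comp_apply ((next s δ).baseChange B), ← LinearMap.baseChange_comp, Submodule.liftQ_mkQ, Φ_natural]

theorem injective_eta_fibre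
    (hδ : ∀ p : PrimeSpectrum A, Function.Injective fun y => Φ (A := P) (FR A P p) K P (δ.baseChange (FR A P p) y))
    (p : PrimeSpectrum A) : Function.Injective ((eta s δ).baseChange (FR A P p)) := fun x y hxy => by
  refine hδ p (LinearMap.ext fun z => ?_)
  obtain ⟨w, rfl⟩ := s.surj' p z
  have h1 := congrArg (Φ (A := P) (FR A P p) (Fin s.r → P) P) hxy
  simp only [eta, LinearMap.baseChange_comp, LinearMap.comp_apply, Φ_natural] at h1
  exact LinearMap.congr_fun h1 w

theorem injective_next_fibre
    (hδ : ∀ p : PrimeSpectrum A, Function.Bijective fun y => Φ (A := P) (FR A P p) K P (δ.baseChange (FR A P p) y))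
    (p : PrimeSpectrum A) :
    Function.Injective fun x => Φ (A := P) (FR A P p) (LinearMap.ker s.π) P ((next s δ).baseChange (FR A P p) x) := by
  intro a b hab
  dsimp only at hab
  rw [← sub_eq_zero, ← map_sub (Φ (A := P) (FR A P p) (LinearMap.ker s.π) P),
    ← map_sub ((next s δ).baseChange (FR A P p))] at hab
  rw [← sub_eq_zero]
  generalize a - b = x at hab ⊢
  obtain ⟨z, rfl⟩ := LinearMap.lTensor_surjective (FR A P p) (Submodule.mkQ_surjective (LinearMap.range (eta s δ))) x
  obtain ⟨φ, hφ⟩ := exists_factor (s.exact p) (s.surj' p) _ ((Φ_next s δ _ z).symm.trans hab)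
  obtain ⟨y, rfl⟩ := (hδ p).2 φ
  have hz : z = (eta s δ).baseChange (FR A P p) y :=
    (Φ_bijective_free (A := P) (FR A P p) (Fin s.r → P) P).1
      (by rw [hφ, eta, LinearMap.baseChange_comp, LinearMap.comp_apply, Φ_natural])
  show (LinearMap.range (eta s δ)).mkQ.baseChange (FR A P p) z = 0
  rw [hz, ← LinearMap.comp_apply, ← LinearMap.baseChange_comp, LinearMap.range_mkQ_comp, LinearMap.baseChange_zero,
    LinearMap.zero_apply]

theorem surjective_next_fibre (p : PrimeSpectrum A) (h : Subsingleton (EF (P := P) p K 1)) :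
    Function.Surjective fun x => Φ (A := P) (FR A P p) (LinearMap.ker s.π) P ((next s δ).baseChange (FR A P p) x) := by
  intro ψ
  obtain ⟨e⟩ := (s.shiftFib p 0).2
  obtain ⟨g, hg⟩ := (Submodule.Quotient.mk_eq_zero _).1 (e.symm.injective (h.elim (e.symm (Submodule.Quotient.mk ψ)) (e.symm 0)))
  obtain ⟨z, rfl⟩ := (Φ_bijective_free (A := P) (FR A P p) (Fin s.r → P) P).2 g
  exact ⟨_, (Φ_next s δ _ z).trans hg⟩

theorem bijective_of_next (hη : Function.Injective (eta s δ)) (hn : Function.Injective (next s δ)) :
    Function.Bijective δ := by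
  refine ⟨fun x y h => hη (congrArg (LinearMap.lcomp P P s.π) h), fun φ => ?_⟩
  obtain ⟨y, hy⟩ := (Submodule.Quotient.mk_eq_zero _).1 (hn (a₁ := Submodule.Quotient.mk (φ ∘ₗ s.π)) (a₂ := 0)
    (by rw [map_zero]; exact LinearMap.ext fun x => by simp))
  refine ⟨y, LinearMap.ext fun z => ?_⟩
  obtain ⟨w, rfl⟩ := s.surj z
  exact LinearMap.congr_fun hy w

/-- The inductive statement: everything is concentrated in degree `c + 1`. -/
theorem concentrated : ∀ (c : ℕ) (K : Type u) [AddCommGroup K] [Module P K] [Module A K] [IsScalarTower A P K]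
    [Module.FinitePresentation P K] [Module.Flat A K] (Y : Type u) [AddCommGroup Y] [Module P Y] [Module A Y]
    [IsScalarTower A P Y] [Module.FinitePresentation P Y] [Module.Flat A Y] (δ : Y →ₗ[P] Dl P K),
    PdFib A P K (c + 1) →
    (∀ p : PrimeSpectrum A, Function.Bijective fun y => Φ (A := P) (FR A P p) K P (δ.baseChange (FR A P p) y)) →
    (∀ (p : PrimeSpectrum A) (j : ℕ), 1 ≤ j → j ≤ c → Subsingleton (EF (P := P) p K j)) →
    Function.Bijective δ ∧ (∀ j, 1 ≤ j → j ≤ c → Subsingleton (E P K j)) ∧
      Module.FinitePresentation P (E P K (c + 1)) ∧ Module.Flat A (RestrictScalars A P (E P K (c + 1))) := by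
  intro c
  induction c with
  | zero =>
    intro K _ _ _ _ _ _ Y _ _ _ _ _ _ δ hpd hδ hvan
    obtain ⟨s⟩ := nonempty_step (A := A) (P := P) (K := K)
    haveI := s.fp
    haveI := s.flat
    haveI := projective_of_pdFib_zero (A := A) (P := P) (s.pdFib hpd)
    haveI := (dual_good (A := A) (P := P) (Fin s.r → P)).1
    haveI := (dual_good (A := A) (P := P) (Fin s.r → P)).2
    haveI := (dual_good (A := A) (P := P) (LinearMap.ker s.π)).1
    haveI := (dual_good (A := A) (P := P) (LinearMap.ker s.π)).2
    obtain ⟨hη, hfl, hfp⟩ := quotient_good (A := A) (eta s δ) (injective_eta_fibre s δ fun p => (hδ p).1)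
    haveI := hfl
    haveI := hfp
    obtain ⟨hn, hfl', hfp'⟩ := quotient_good (A := A) (next s δ) fun p =>
      Function.Injective.of_comp (f := Φ (A := P) (FR A P p) (LinearMap.ker s.π) P) (injective_next_fibre s δ hδ p)
    refine ⟨bijective_of_next s δ hη hn, fun j hj hj' => by omega, ?_⟩
    obtain ⟨e⟩ := (s.shift 0).2
    let e' := Submodule.quotEquivOfEq _ _ (show LinearMap.range (LinearMap.lcomp P P (LinearMap.ker s.π).subtype) =
      LinearMap.range (next s δ) from (Submodule.range_liftQ _ _ _).symm)
    haveI := hfp'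
    exact ⟨Module.FinitePresentation.of_equiv (e.trans e').symm,
      flatA_of_equiv (e.trans e').symm ((flatA_iff _).2 hfl')⟩
  | succ c ih =>
    intro K _ _ _ _ _ _ Y _ _ _ _ _ _ δ hpd hδ hvan
    obtain ⟨s⟩ := nonempty_step (A := A) (P := P) (K := K)
    haveI := s.fp
    haveI := s.flat
    haveI := (dual_good (A := A) (P := P) (Fin s.r → P)).1
    haveI := (dual_good (A := A) (P := P) (Fin s.r → P)).2
    obtain ⟨hη, hfl, hfp⟩ := quotient_good (A := A) (eta s δ) (injective_eta_fibre s δ fun p => (hδ p).1)
    haveI := hfl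
    haveI := hfp
    obtain ⟨hbij, hlow, hfpE, hflE⟩ := ih (LinearMap.ker s.π) _ (next s δ) (s.pdFib hpd)
      (fun p => ⟨injective_next_fibre s δ hδ p, surjective_next_fibre s δ p (hvan p 1 le_rfl (by omega))⟩)
      (fun p j h1 h2 => by
        obtain ⟨j, rfl⟩ := Nat.exists_eq_add_of_le' h1
        obtain ⟨e⟩ := (s.shiftFib p j).1
        haveI := hvan p (j + 2) (by omega) (by omega)
        exact e.symm.injective.subsingleton)
    obtain ⟨e⟩ := (s.shift c).1
    haveI := hfpE
    refine ⟨bijective_of_next s δ hη hbij.1, fun j h1 h2 => ?_, Module.FinitePresentation.of_equiv e.symm,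
      flatA_of_equiv e.symm hflE⟩
    obtain ⟨j, rfl⟩ := Nat.exists_eq_add_of_le' h1
    match j with
    | 0 =>
      obtain ⟨e1⟩ := (s.shift 0).2
      haveI : Subsingleton (Dl P (LinearMap.ker s.π) ⧸
          LinearMap.range (LinearMap.lcomp P P (LinearMap.ker s.π).subtype)) :=
        Submodule.Quotient.subsingleton_iff.2 ((Submodule.range_liftQ _ _ (range_eta_le s δ)).symm.trans
          (LinearMap.range_eq_top.2 hbij.2))
      exact e1.injective.subsingleton
    | j + 1 =>
      obtain ⟨e1⟩ := (s.shift j).1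
      haveI := hlow (j + 1) (by omega) (by omega)
      exact e1.injective.subsingleton

/-- The fibrewise criterion: `Ext(K, P)` lives in degree `c + 1` only and is flat. -/
theorem good_of_fibres (c : ℕ) (K : Type u) [AddCommGroup K] [Module P K] [Module A K] [IsScalarTower A P K]
    [Module.FinitePresentation P K] [Module.Flat A K] (hpd : PdFib A P K (c + 1))
    (hvan : ∀ (p : PrimeSpectrum A) (j : ℕ), j ≤ c → Subsingleton (EF (P := P) p K j)) :
    (∀ j, j ≠ c + 1 → Subsingleton (E P K j)) ∧
      Module.FinitePresentation P (E P K (c + 1)) ∧ Module.Flat A (RestrictScalars A P (E P K (c + 1))) := by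
  obtain ⟨hδ, h1, h2, h3⟩ := concentrated c K PUnit.{u + 1} (0 : PUnit.{u + 1} →ₗ[P] Dl P K) hpd (fun p => by
      haveI := hvan p 0 (Nat.zero_le _)
      haveI : Subsingleton (FR A P p ⊗[P] K →ₗ[FR A P p] FR A P p ⊗[P] P) :=
        (ext0 (R := FR A P p) _ _).symm.injective.subsingleton
      exact ⟨fun a b _ => Subsingleton.elim a b, fun b => ⟨0, Subsingleton.elim _ _⟩⟩)
    (fun p j _ h => hvan p j h)
  refine ⟨fun j hj => ?_, h2, h3⟩
  rcases Nat.lt_or_gt_of_ne hj with hlt | hgt
  · match j with
    | 0 =>
      haveI : Subsingleton (Dl P K) := ⟨fun a b => by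
        obtain ⟨x, rfl⟩ := hδ.2 a
        obtain ⟨y, rfl⟩ := hδ.2 b
        rfl⟩
      exact (ext0 (R := P) K P).injective.subsingleton
    | j + 1 => exact h1 (j + 1) (by omega) (by omega)
  · exact (top_ext c K hpd).1 j hgt

/-- The dual of a module from the dual of its first syzygy. -/
theorem dual_of_step (hfp : Module.FinitePresentation P (LinearMap.range (LinearMap.lcomp P P (LinearMap.ker s.π).subtype)))
    (hfl : Module.Flat A (LinearMap.range (LinearMap.lcomp P P (LinearMap.ker s.π).subtype)))
    (hinj : ∀ p : PrimeSpectrum A, Function.Injective fun x => Φ (A := P) (FR A P p) (LinearMap.ker s.π) P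
      ((LinearMap.range (LinearMap.lcomp P P (LinearMap.ker s.π).subtype)).subtype.baseChange (FR A P p) x)) :
    (Module.FinitePresentation P (Dl P K) ∧ Module.Flat A (Dl P K)) ∧
      ∀ p : PrimeSpectrum A, Function.Bijective (Φ (A := P) (FR A P p) K P) := by
  haveI := hfp
  haveI := hfl
  haveI := (dual_good (A := A) (P := P) (Fin s.r → P)).1
  haveI := (dual_good (A := A) (P := P) (Fin s.r → P)).2
  set b := LinearMap.lcomp P P (LinearMap.ker s.π).subtype with hbdef
  let ι : Dl P K →ₗ[P] Dl P (Fin s.r → P) := LinearMap.lcomp P P s.π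
  have hι : Function.Injective ι := fun x y h => LinearMap.ext fun z => by
    obtain ⟨w, rfl⟩ := s.surj z
    exact LinearMap.congr_fun h w
  have hex : Function.Exact ι b.rangeRestrict := fun φ => by
    constructor
    · intro h
      obtain ⟨χ, hχ⟩ := exists_factor s.π.exact_subtype_ker_map s.surj φ (congrArg Subtype.val h)
      exact ⟨χ, hχ.symm⟩
    · rintro ⟨χ, rfl⟩
      exact Subtype.ext (LinearMap.ext fun x => by simp [b, ι])
  have hker : LinearMap.ker b.rangeRestrict = LinearMap.range ι := LinearMap.exact_iff.1 hex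
  let e : LinearMap.ker b.rangeRestrict ≃ₗ[P] Dl P K :=
    (LinearEquiv.ofEq _ _ hker).trans (LinearEquiv.ofInjective ι hι).symm
  haveI := Groth.Agent.H06EGA11.finitePresentation_ker (A := A) (G := Dl P (Fin s.r → P)) (M := LinearMap.range b) b.rangeRestrict b.surjective_rangeRestrict
  haveI := flatA_ker (A := A) (M := Dl P (Fin s.r → P)) (N := LinearMap.range b) b.rangeRestrict b.surjective_rangeRestrict
  refine ⟨good_of_equiv (M := LinearMap.ker b.rangeRestrict) e, fun p => ?_⟩
  have hιp : Function.Injective (ι.baseChange (FR A P p)) :=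
    Groth.Agent.H06EGA11.baseChange_injective_of_flat (L := Dl P K) (F := Dl P (Fin s.r → P)) (M := LinearMap.range b) ι b.rangeRestrict hι b.surjective_rangeRestrict hex _
  have hnat : ∀ x, Φ (A := P) (FR A P p) (Fin s.r → P) P (ι.baseChange (FR A P p) x) =
      Φ (A := P) (FR A P p) K P x ∘ₗ s.π.baseChange (FR A P p) := fun x => Φ_natural _ P _ x
  refine ⟨(injective_iff_map_eq_zero _).2 fun x hx => ?_, fun φ => ?_⟩
  · apply hιp
    apply (Φ_bijective_free (A := P) (FR A P p) (Fin s.r → P) P).1
    rw [hnat, hx, LinearMap.zero_comp, map_zero, map_zero]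
  · obtain ⟨z, hz⟩ := (Φ_bijective_free (A := P) (FR A P p) (Fin s.r → P) P).2 (φ ∘ₗ s.π.baseChange (FR A P p))
    have h0 : b.rangeRestrict.baseChange (FR A P p) z = 0 := by
      apply hinj p
      dsimp only
      rw [← LinearMap.comp_apply ((LinearMap.range b).subtype.baseChange _), ← LinearMap.baseChange_comp,
        show (LinearMap.range b).subtype ∘ₗ b.rangeRestrict = b from LinearMap.ext fun _ => rfl, Φ_natural, hz,
        LinearMap.comp_assoc, (s.exact p).linearMap_comp_eq_zero, LinearMap.comp_zero, map_zero, map_zero]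
    obtain ⟨x, rfl⟩ := exists_preimage_range ι b hex z h0
    refine ⟨x, LinearMap.ext fun k => ?_⟩
    obtain ⟨w, rfl⟩ := s.surj' p k
    exact LinearMap.congr_fun ((hnat x).symm.trans hz) w

/-- The converse: flatness of the only `Ext` gives concentration on the fibres. -/
theorem fibres_of_good : ∀ (c : ℕ) (K : Type u) [AddCommGroup K] [Module P K] [Module A K] [IsScalarTower A P K]
    [Module.FinitePresentation P K] [Module.Flat A K], PdFib A P K (c + 1) →
    (∀ j, 1 ≤ j → j ≤ c → Subsingleton (E P K j)) →
    Module.FinitePresentation P (E P K (c + 1)) → Module.Flat A (RestrictScalars A P (E P K (c + 1))) →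
    (Module.FinitePresentation P (Dl P K) ∧ Module.Flat A (Dl P K)) ∧
      (∀ p : PrimeSpectrum A, Function.Bijective (Φ (A := P) (FR A P p) K P)) ∧
      ∀ (p : PrimeSpectrum A) (j : ℕ), 1 ≤ j → j ≤ c → Subsingleton (EF (P := P) p K j) := by
  intro c
  induction c with
  | zero =>
    intro K _ _ _ _ _ _ hpd _ hfpE hflE
    obtain ⟨s⟩ := nonempty_step (A := A) (P := P) (K := K)
    haveI := s.fp
    haveI := s.flat
    haveI := projective_of_pdFib_zero (A := A) (P := P) (s.pdFib hpd)
    haveI := (dual_good (A := A) (P := P) (LinearMap.ker s.π)).1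
    haveI := (dual_good (A := A) (P := P) (LinearMap.ker s.π)).2
    obtain ⟨e⟩ := (s.shift 0).2
    let R := LinearMap.range (LinearMap.lcomp P P (LinearMap.ker s.π).subtype)
    haveI := hfpE
    haveI : Module.FinitePresentation P (Dl P (LinearMap.ker s.π) ⧸ R) := Module.FinitePresentation.of_equiv e
    haveI : Module.Flat A (Dl P (LinearMap.ker s.π) ⧸ R) := (flatA_iff _).1 (flatA_of_equiv e hflE)
    obtain ⟨hR1, hR2, hR3⟩ := submodule_good (A := A) (H := Dl P (LinearMap.ker s.π)) R
    obtain ⟨h1, h2⟩ := dual_of_step s hR1 hR2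
      fun p => (Φ_bijective_projective (FR A P p)).1.comp (hR3 p.asIdeal.ResidueField)
    exact ⟨h1, h2, fun p j h h' => by omega⟩
  | succ c ih =>
    intro K _ _ _ _ _ _ hpd hvan hfpE hflE
    obtain ⟨s⟩ := nonempty_step (A := A) (P := P) (K := K)
    haveI := s.fp
    haveI := s.flat
    obtain ⟨e⟩ := (s.shift c).1
    haveI := hfpE
    obtain ⟨⟨hfp', hfl'⟩, hbij, hlow⟩ := ih (LinearMap.ker s.π) (s.pdFib hpd) (fun j h1 h2 => by
        obtain ⟨j, rfl⟩ := Nat.exists_eq_add_of_le' h1
        obtain ⟨e1⟩ := (s.shift j).1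
        haveI := hvan (j + 2) (by omega) (by omega)
        exact e1.symm.injective.subsingleton) (Module.FinitePresentation.of_equiv e) (flatA_of_equiv e hflE)
    let b := LinearMap.lcomp P P (LinearMap.ker s.π).subtype
    have hb : LinearMap.range b = ⊤ := by
      obtain ⟨e1⟩ := (s.shift 0).2
      haveI := hvan 1 le_rfl (by omega)
      haveI : Subsingleton (Dl P (LinearMap.ker s.π) ⧸ LinearMap.range b) := e1.symm.injective.subsingleton
      exact Submodule.Quotient.subsingleton_iff.1 inferInstance
    let t : LinearMap.range b ≃ₗ[P] Dl P (LinearMap.ker s.π) := LinearEquiv.ofTop _ hb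
    haveI := hfp'
    haveI := hfl'
    obtain ⟨h1, h2⟩ := dual_of_step s (Module.FinitePresentation.of_equiv (M := Dl P (LinearMap.ker s.π)) (N := LinearMap.range b) t.symm)
      (Module.Flat.of_linearEquiv (t.restrictScalars A)) fun p =>
        (hbij p).1.comp (t.baseChange P (FR A P p) _ _).injective
    refine ⟨h1, h2, fun p j h h' => ?_⟩
    obtain ⟨j, rfl⟩ := Nat.exists_eq_add_of_le' h
    match j with
    | 0 =>
      obtain ⟨e1⟩ := (s.shiftFib p 0).2
      haveI : Subsingleton (Cok ((LinearMap.ker s.π).subtype.baseChange (FR A P p)) (FR A P p ⊗[P] P)) :=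
        Submodule.Quotient.subsingleton_iff.2 (LinearMap.range_eq_top.2 fun ψ => by
          obtain ⟨x, rfl⟩ := (hbij p).2 ψ
          obtain ⟨z, rfl⟩ := LinearMap.lTensor_surjective (FR A P p) (LinearMap.range_eq_top.1 hb) x
          exact ⟨Φ (A := P) (FR A P p) (Fin s.r → P) P z, (Φ_natural _ P _ z).symm⟩)
      exact e1.injective.subsingleton
    | j + 1 =>
      obtain ⟨e1⟩ := (s.shiftFib p j).1
      haveI := hlow p (j + 1) (by omega) (by omega)
      exact e1.injective.subsingleton

/-- The converse in all degrees below. -/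
theorem fibres_vanish (c : ℕ) (K : Type u) [AddCommGroup K] [Module P K] [Module A K] [IsScalarTower A P K]
    [Module.FinitePresentation P K] [Module.Flat A K] (hpd : PdFib A P K (c + 1))
    (hvan : ∀ j, j ≤ c → Subsingleton (E P K j)) (hfp : Module.FinitePresentation P (E P K (c + 1)))
    (hfl : Module.Flat A (RestrictScalars A P (E P K (c + 1)))) (p : PrimeSpectrum A) (j : ℕ) (hj : j ≤ c) :
    Subsingleton (EF (P := P) p K j) := by
  obtain ⟨-, hΦ, h⟩ := fibres_of_good c K hpd (fun j _ h => hvan j h) hfp hfl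
  match j with
  | 0 =>
    haveI := hvan 0 (Nat.zero_le _)
    haveI : Subsingleton (Dl P K) := (ext0 (R := P) K P).symm.injective.subsingleton
    haveI : Subsingleton (FR A P p ⊗[P] Dl P K) := inferInstance
    haveI : Subsingleton (FR A P p ⊗[P] K →ₗ[FR A P p] FR A P p ⊗[P] P) := (hΦ p).2.subsingleton
    exact (ext0 (R := FR A P p) _ _).injective.subsingleton
  | j + 1 => exact h p (j + 1) (by omega) hj

end Groth.Agent.H02CA.ExtFib
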